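import Cfsg.Agent.Lib.Trivalent.Bound

/-!
The chain of a maximal core-free subgroup meeting a conjugate with index 3.
-/

set_option autoImplicit false
set_option linter.style.haveILetI false

namespace Cfsg.Agent.Lib.Trivalent

open Subgroup

variable {G : Type*} [Group G]

/-- The `i`th translate of a subgroup. -/
def trans (φ : MulAut G) (S : Subgroup G) (i : ℤ) : Subgroup G :=
  S.map ((φ ^ i : MulAut G) : G ≃* G).toMonoidHom

theorem map_trans (φ : MulAut G) (S : Subgroup G) (i : ℤ) :
    (trans φ S i).map (φ : G ≃* G).toMonoidHom = trans φ S (i + 1) := by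
  rw [trans, trans, map_map]
  congr 1
  ext y
  show φ ((φ ^ i) y) = (φ ^ (i + 1)) y
  rw [add_comm i 1, zpow_add, zpow_one, MulAut.mul_apply]

theorem trans_zero (φ : MulAut G) (S : Subgroup G) : trans φ S 0 = S := by
  rw [trans, zpow_zero]
  exact map_id S

theorem card_trans (φ : MulAut G) (S : Subgroup G) (i : ℤ) :
    Nat.card (trans φ S i) = Nat.card S :=
  (Nat.card_congr (S.equivMapOfInjective _ (φ ^ i : MulAut G).injective).toEquiv).symm

/-- The intersection of `k + 1` consecutive translates. -/
def inter (φ : MulAut G) (S : Subgroup G) : ℕ → ℤ → Subgroup G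
  | 0, i => trans φ S i
  | k + 1, i => inter φ S k i ⊓ inter φ S k (i + 1)

theorem map_inter (φ : MulAut G) (S : Subgroup G) :
    ∀ (k : ℕ) (i : ℤ), (inter φ S k i).map (φ : G ≃* G).toMonoidHom = inter φ S k (i + 1)
  | 0, i => map_trans φ S i
  | k + 1, i => by
    rw [inter, inter, map_inf _ _ _ φ.injective, map_inter φ S k i, map_inter φ S k (i + 1)]

theorem forall_int {p : ℤ → Prop} (h0 : p 0) (h : ∀ i, p i ↔ p (i + 1)) (i : ℤ) : p i := by
  induction i with
  | zero => exact h0
  | succ i ih => exact (h i).mp ih
  | pred i ih => exact (h _).mpr (by rwa [sub_add_cancel])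

theorem card_inter (φ : MulAut G) (S : Subgroup G) (k : ℕ) (i : ℤ) :
    Nat.card (inter φ S k i) = Nat.card (inter φ S k 0) := by
  refine forall_int (p := fun i => Nat.card (inter φ S k i) = Nat.card (inter φ S k 0)) rfl
    (fun j => ?_) i
  rw [← map_inter, card_map_of_injective (φ : G ≃* G).injective]

theorem relIndex_mul_card_of_le {H K : Subgroup G} (h : H ≤ K) :
    H.relIndex K * Nat.card H = Nat.card K := by
  rw [← relIndex_bot_left H, ← relIndex_bot_left K, mul_comm]
  exact relIndex_mul_relIndex ⊥ H K bot_le h

theorem mul_card_le [Finite G] {A B C : Subgroup G} (hA : A ≤ C) (hB : B ≤ C) :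
    Nat.card B * Nat.card A ≤ Nat.card ↥(A ⊓ B) * Nat.card C := by
  have h1 := relIndex_mul_card_of_le (inf_le_left : A ⊓ B ≤ A)
  have h2 := relIndex_mul_card_of_le hB
  have h3 : (A ⊓ B).relIndex A ≤ B.relIndex C := by
    rw [inf_relIndex_left]
    exact relIndex_le_of_le_right hA (by
      intro h0
      rw [h0, zero_mul] at h2
      exact (Nat.card_pos (α := C)).ne h2)
  calc Nat.card B * Nat.card A
      = Nat.card B * ((A ⊓ B).relIndex A * Nat.card ↥(A ⊓ B)) := by rw [h1]
    _ ≤ Nat.card B * (B.relIndex C * Nat.card ↥(A ⊓ B)) := by gcongr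
    _ = Nat.card ↥(A ⊓ B) * (B.relIndex C * Nat.card B) := by ring
    _ = _ := by rw [h2]

theorem exists_tri [Finite G] {H : Subgroup G} (hH : IsCoatom H)
    (hcore : ∀ N : Subgroup G, N.Normal → N ≤ H → N = ⊥) {g : G} (hg : g ∉ H) {t : ℕ}
    (P : Subgroup G) (hPdef : P = H ⊓ H.map (MulAut.conj g).toMonoidHom)
    (hPcard : Nat.card P = 2 ^ t) (hHcard : Nat.card H = 3 * 2 ^ t)
    (hne : P.map (MulAut.conj g).toMonoidHom ≠ P) :
    ∃ c : Chain G t, Tri c ∧ Nonempty (H ≃* win c.x 0 (t + 1)) := by
  set φ : MulAut G := MulAut.conj g with hφ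
  have hne0 : ∀ i, trans φ P i ≠ trans φ P (i + 1) := by
    refine forall_int ?_ fun i => ?_
    · rw [trans_zero, ← map_trans, trans_zero]
      exact fun e => hne e.symm
    · rw [← map_trans φ P (i + 1), ← map_trans φ P i]
      exact ((map_injective φ.injective).ne_iff).symm
  have hPH : P ≤ H := hPdef ▸ inf_le_left
  have hPH1 : P ≤ H.map (φ : G ≃* G).toMonoidHom := hPdef ▸ inf_le_right
  have hTH : ∀ i, trans φ P i ≤ trans φ H i := fun i => map_mono hPH
  have hTH1 : ∀ i, trans φ P i ≤ trans φ H (i + 1) := by
    intro i
    refine (map_mono hPH1).trans (le_of_eq ?_)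
    rw [trans, map_map]
    congr 1
    ext y
    show (φ ^ i) (φ y) = (φ ^ (i + 1)) y
    rw [zpow_add, zpow_one, MulAut.mul_apply]
  have hcoatom : ∀ i, IsCoatom (trans φ H i) := fun i =>
    (OrderIso.isCoatom_iff ((φ ^ i : MulAut G) : G ≃* G).mapSubgroup H).mpr hH
  -- two consecutive translates of `P` generate a translate of `H`
  have hgen : ∀ i, trans φ P i ⊔ trans φ P (i + 1) = trans φ H (i + 1) := by
    intro i
    have hle : trans φ P i ⊔ trans φ P (i + 1) ≤ trans φ H (i + 1) := sup_le (hTH1 i) (hTH _)
    refine eq_of_le_of_card_ge hle ?_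
    rw [card_trans, hHcard]
    have h1 := card_dvd_of_le hle
    rw [card_trans, hHcard] at h1
    have h2 := card_dvd_of_le (le_sup_left : trans φ P i ≤ trans φ P i ⊔ trans φ P (i + 1))
    rw [card_trans, hPcard] at h2
    obtain ⟨q, hq⟩ := h2
    rw [hq, mul_comm (2 ^ t) q] at h1
    rcases (Nat.dvd_prime Nat.prime_three).mp
      ((Nat.mul_dvd_mul_iff_right (Nat.two_pow_pos t)).mp h1) with rfl | rfl
    · exfalso
      rw [mul_one] at hq
      have e1 := eq_of_le_of_card_ge (le_sup_left : trans φ P i ≤ _ ⊔ trans φ P (i + 1))
        (by rw [hq, card_trans, hPcard])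
      have e2 := eq_of_le_of_card_ge (le_sup_right : trans φ P (i + 1) ≤ trans φ P i ⊔ _)
        (by rw [hq, card_trans, hPcard])
      exact hne0 i (e1.trans e2.symm)
    · rw [hq, mul_comm]
  have hpos : 1 ≤ t := by
    by_contra h0
    refine hne ?_
    have : P = ⊥ := by
      rw [← card_eq_one, hPcard, show t = 0 by omega, pow_zero]
    rw [this, Subgroup.map_bot]
  have hinv' : ∀ k i, inter φ P k i = inter φ P k (i + 1) → ∀ j, inter φ P k j = inter φ P k i := by
    intro k i e
    have h0 : ∀ j, inter φ P k j = inter φ P k (j + 1) ↔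
        inter φ P k (j + 1) = inter φ P k (j + 1 + 1) := fun j => by
      rw [← map_inter φ P k (j + 1), ← map_inter φ P k j]
      exact (map_injective φ.injective).eq_iff.symm
    have h00 : inter φ P k 0 = inter φ P k (0 + 1) :=
      (forall_int (p := fun j => (inter φ P k 0 = inter φ P k (0 + 1)) ↔
        inter φ P k j = inter φ P k (j + 1)) Iff.rfl (fun j => by rw [h0 j]) i).mpr e
    have hall : ∀ j, inter φ P k j = inter φ P k 0 := by
      refine forall_int rfl fun j => ?_
      have := (forall_int (p := fun j => inter φ P k j = inter φ P k (j + 1)) h00 h0) j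
      rw [← this]
    intro j
    rw [hall j, hall i]
  have hstep : ∀ j, 1 ≤ j → j + 1 ≤ t →
      (∀ l, l ≤ j + 1 → ∀ i, Nat.card (inter φ P l i) = 2 ^ (t - l)) →
      ∀ i, inter φ P j i ⊔ inter φ P j (i + 1) = inter φ P (j - 1) (i + 1) := by
    intro j hj hjt hc i
    obtain ⟨l, rfl⟩ : ∃ l, j = l + 1 := ⟨j - 1, by omega⟩
    rw [Nat.add_sub_cancel]
    have hle : inter φ P (l + 1) i ⊔ inter φ P (l + 1) (i + 1) ≤ inter φ P l (i + 1) :=
      sup_le inf_le_right inf_le_left
    refine eq_of_le_of_card_ge hle ?_
    have h1 := card_dvd_of_le hle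
    rw [hc l (by omega)] at h1
    obtain ⟨m, hm, hm'⟩ := (Nat.dvd_prime_pow Nat.prime_two).mp h1
    rw [hc l (by omega), hm']
    refine Nat.pow_le_pow_right two_pos (not_lt.mp fun hlt => ?_)
    have e := eq_of_le_of_card_ge
      (le_sup_left : inter φ P (l + 1) i ≤ _ ⊔ inter φ P (l + 1) (i + 1))
      (by rw [hm', hc (l + 1) (by omega)]; exact Nat.pow_le_pow_right two_pos (by omega))
    have e2 : inter φ P (l + 1) (i + 1) ≤ inter φ P (l + 1) i := e ▸ le_sup_right
    have e3 : inter φ P (l + 1 + 1) i = inter φ P (l + 1) (i + 1) := inf_eq_right.mpr e2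
    have h := hc (l + 1 + 1) le_rfl i
    rw [e3, hc (l + 1) (by omega)] at h
    have := Nat.pow_right_injective le_rfl h
    omega
  have hcard : ∀ k, k ≤ t → ∀ i, Nat.card (inter φ P k i) = 2 ^ (t - k) := by
    intro k
    induction k using Nat.strong_induction_on with
    | _ k ih =>
      intro hk i
      rw [card_inter]
      cases k with
      | zero => rw [inter, trans_zero, hPcard, Nat.sub_zero]
      | succ k =>
        have hc := ih k (by omega) (by omega)
        obtain ⟨p, hp, hp'⟩ : ∃ p ≤ t - k, Nat.card (inter φ P (k + 1) 0) = 2 ^ p := by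
          have h : Nat.card (inter φ P (k + 1) 0) ∣ 2 ^ (t - k) := by
            rw [← hc 0]; exact card_dvd_of_le inf_le_left
          exact (Nat.dvd_prime_pow Nat.prime_two).mp h
        rw [hp']
        congr 1
        have hbound : 2 ^ (t - k) ≤ 3 * 2 ^ p := by
          cases k with
          | zero =>
            have h := mul_card_le (hTH1 0) (hTH (0 + 1))
            have e : Nat.card ↥(trans φ P 0 ⊓ trans φ P (0 + 1)) = 2 ^ p := hp'
            rw [card_trans, card_trans, card_trans, hHcard, hPcard, e] at h
            rw [Nat.sub_zero]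
            refine Nat.le_of_mul_le_mul_right ?_ (Nat.two_pow_pos t)
            linarith
          | succ k =>
            have h := mul_card_le (A := inter φ P (k + 1) 0) (B := inter φ P (k + 1) (0 + 1))
              (C := inter φ P k (0 + 1)) inf_le_right inf_le_left
            have e : Nat.card ↥(inter φ P (k + 1) 0 ⊓ inter φ P (k + 1) (0 + 1)) = 2 ^ p := hp'
            rw [e, hc, hc, ih k (by omega) (by omega)] at h
            rw [show t - k = t - (k + 1) + 1 by omega, pow_succ] at h
            have h0 := Nat.two_pow_pos (t - (k + 1))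
            have h0' := Nat.two_pow_pos p
            refine Nat.le_of_mul_le_mul_right (le_trans h ?_) h0
            nlinarith
        have hp1 : t - k ≤ p + 1 := by
          by_contra hh
          have h4 : 4 * 2 ^ p ≤ 2 ^ (t - k) := by
            calc 4 * 2 ^ p = 2 ^ (p + 2) := by rw [pow_add]; ring
              _ ≤ _ := Nat.pow_le_pow_right two_pos (by omega)
          have := Nat.two_pow_pos p
          omega
        by_contra hne'
        obtain rfl : p = t - k := by omega
        have e0 : inter φ P (k + 1) 0 = inter φ P k 0 :=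
          eq_of_le_of_card_ge inf_le_left (by rw [hp', hc])
        have e1 : inter φ P k 0 = inter φ P k (0 + 1) :=
          eq_of_le_of_card_ge (inf_eq_left.mp e0) (by rw [hc, hc])
        have hX := hinv' k 0 e1
        cases k with
        | zero => exact hne0 0 e1
        | succ k =>
          set X := inter φ P (k + 1) 0 with hXdef
          have hbase : ∀ i, inter φ P k i ≤ normalizer (X : Set G) := by
            intro i
            have hle : X ≤ inter φ P k i := hX i ▸ inf_le_left
            refine (normal_subgroupOf_iff_le_normalizer hle).mp (normal_of_index_eq_two ?_)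
            have h := card_mul_index (X.subgroupOf (inter φ P k i))
            rw [Nat.card_congr (subgroupOfEquivOfLe hle).toEquiv, hXdef, hc 0,
              ih k (by omega) (by omega) i, show t - k = t - (k + 1) + 1 by omega, pow_succ] at h
            exact Nat.eq_of_mul_eq_mul_left (Nat.two_pow_pos _) h
          have hdown : ∀ j, j ≤ k → ∀ i, inter φ P (k - j) i ≤ normalizer (X : Set G) := by
            intro j
            induction j with
            | zero => intro _ i; rw [Nat.sub_zero]; exact hbase i
            | succ j ihj =>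
              intro hj i
              have h1 := ihj (by omega)
              have h2 := hstep (k - j) (by omega) (by omega)
                (fun l hl i => ih l (by omega) (by omega) i) (i - 1)
              rw [sub_add_cancel, show k - j - 1 = k - (j + 1) by omega] at h2
              rw [← h2]
              exact sup_le (h1 _) (h1 _)
          have hall : ∀ i, trans φ P i ≤ normalizer (X : Set G) := fun i => by
            have := hdown k le_rfl i
            rwa [Nat.sub_self] at this
          have hN : H ≤ normalizer (X : Set G) := by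
            rw [← trans_zero φ H, show (0 : ℤ) = -1 + 1 by norm_num, ← hgen]
            exact sup_le (hall _) (hall _)
          have hXmap : X.map (φ : G ≃* G).toMonoidHom = X := by rw [hXdef, map_inter, hX]
          have hgN : g ∈ normalizer (X : Set G) := by
            rw [mem_normalizer_iff]
            intro y
            constructor
            · intro hy
              have h := mem_map_of_mem (φ : G ≃* G).toMonoidHom hy
              rw [hXmap] at h
              exact h
            · intro hy
              rw [← hXmap] at hy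
              obtain ⟨z, hz, e⟩ := hy
              rwa [φ.injective e] at hz
          have htop : normalizer (X : Set G) = ⊤ :=
            (hH.le_iff.mp hN).resolve_right fun e => hg (e ▸ hgN)
          have hXle : ∀ l i, inter φ P l i ≤ trans φ P i := by
            intro l
            induction l with
            | zero => intro i; exact le_rfl
            | succ l ihl => intro i; exact inf_le_left.trans (ihl i)
          have hXb : X = ⊥ := hcore X (normalizer_eq_top_iff.mp htop) (by
            have := hXle (k + 1) 0
            rw [trans_zero] at this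
            exact this.trans hPH)
          have h := hc 0
          rw [show inter φ P (k + 1) 0 = ⊥ from hXb, card_bot] at h
          have := Nat.one_lt_two_pow (show t - (k + 1) ≠ 0 by omega)
          omega
  -- the sequence
  obtain ⟨e, he, he1⟩ : ∃ e ∈ inter φ P (t - 1) (1 - (t : ℤ)), e ≠ 1 := by
    by_contra hh
    push Not at hh
    have h := hcard (t - 1) (by omega) (1 - (t : ℤ))
    rw [(eq_bot_iff_forall _).mpr hh, card_bot, show t - (t - 1) = 1 by omega] at h
    norm_num at h
  set x : ℤ → G := fun i => (φ ^ i) e with hxdef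
  have hshift : ∀ i, φ (x i) = x (i + 1) := fun i => by
    show φ ((φ ^ i) e) = (φ ^ (i + 1)) e
    rw [add_comm i 1, zpow_add, zpow_one, MulAut.mul_apply]
  have hxmem : ∀ i, x i ∈ inter φ P (t - 1) (i + 1 - t) := by
    refine forall_int ?_ fun i => ?_
    · rw [zero_add]
      show (φ ^ (0 : ℤ)) e ∈ _
      rw [zpow_zero]; exact he
    · rw [show i + 1 + 1 - (t : ℤ) = i + 1 - t + 1 by ring, ← map_inter, ← hshift]
      exact (mem_map_iff_mem (f := (φ : G ≃* G).toMonoidHom) φ.injective).symm
  have hwin : ∀ n, n + 1 ≤ t → ∀ i : ℤ,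
      win x i (n + 1) = inter φ P (t - (n + 1)) (i + n + 1 - t) := by
    intro n
    induction n with
    | zero =>
      intro hn i
      rw [Nat.cast_zero, add_zero, zero_add]
      have hle : win x i 1 ≤ inter φ P (t - 1) (i + 1 - t) :=
        win_le fun j h1 h2 => by rw [show j = i by omega]; exact hxmem i
      refine eq_of_le_of_card_ge hle ?_
      rw [hcard (t - 1) (by omega), show t - (t - 1) = 1 by omega, pow_one]
      refine Nat.succ_le_of_lt ((one_lt_card_iff_ne_bot _).mpr fun hb => ?_)
      have : x i ∈ (⊥ : Subgroup G) := hb ▸ mem_win le_rfl (by omega)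
      exact he1 ((φ ^ i : MulAut G).injective ((mem_bot.mp this).trans (map_one _).symm))
    | succ n ih =>
      intro hn i
      have h := hstep (t - (n + 1)) (by omega) (by omega)
        (fun l hl i => hcard l (by omega) i) (i + n + 1 - t)
      rw [show i + (n : ℤ) + 1 - t + 1 = i + 1 + n + 1 - t by ring, ← ih (by omega) i,
        ← ih (by omega) (i + 1), win_sup (by omega)] at h
      rw [h, show t - (n + 1) - 1 = t - (n + 1 + 1) by omega]
      congr 1
      push_cast; ring
  have hwt : ∀ i, win x i t = trans φ P i := by
    intro i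
    obtain ⟨n, rfl⟩ : ∃ n, t = n + 1 := ⟨t - 1, by omega⟩
    rw [hwin n le_rfl i, Nat.sub_self, show i + (n : ℤ) + 1 - ((n + 1 : ℕ) : ℤ) = i by push_cast; ring]
    rfl
  let c : Chain G t :=
    { x := x
      φ := φ
      shift := hshift
      card_win := fun i n hn => by
        cases n with
        | zero => rw [win_zero, card_bot, pow_zero]
        | succ n => rw [hwin n hn i, hcard _ (by omega), show t - (t - (n + 1)) = n + 1 by omega]
      ne := fun i => by rw [hwt, hwt]; exact hne0 i
      pos := hpos }
  have htop : ∀ i, win x i (t + 1) = trans φ H (i + 1) := fun i => by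
    rw [← win_sup (x := x) hpos, hwt, hwt, hgen]
  refine ⟨c, ⟨fun i => ?_, fun i => ?_, fun i => ?_, ?_⟩, ?_⟩
  · show Nat.card (win x i (t + 1)) = _
    rw [htop, card_trans, hHcard]
  · show IsCoatom (win x i (t + 1))
    rw [htop]; exact hcoatom _
  · show win x i (t + 1) ≠ win x (i + 1) (t + 1)
    rw [htop, htop]
    have h01 : trans φ H 0 ≠ trans φ H (0 + 1) := by
      rw [trans_zero, ← map_trans, trans_zero]
      intro e
      have hgN : g ∈ normalizer (H : Set G) := by
        rw [mem_normalizer_iff]
        intro y
        constructor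
        · intro hy
          have h := mem_map_of_mem (φ : G ≃* G).toMonoidHom hy
          rw [← e] at h
          exact h
        · intro hy
          rw [SetLike.mem_coe.symm, SetLike.mem_coe, e] at hy
          obtain ⟨z, hz, e'⟩ := hy
          rwa [φ.injective e'] at hz
      have htop : normalizer (H : Set G) = ⊤ :=
        (hH.le_iff.mp Subgroup.le_normalizer).resolve_right fun e => hg (e ▸ hgN)
      have hb := hcore H (normalizer_eq_top_iff.mp htop) le_rfl
      rw [hb, card_bot] at hHcard
      have := Nat.two_pow_pos t
      omega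
    exact forall_int (p := fun j => trans φ H j ≠ trans φ H (j + 1)) h01 (fun j => by
      rw [← map_trans φ H (j + 1), ← map_trans φ H j]
      exact ((map_injective φ.injective).ne_iff).symm) (i + 1)
  · show ∀ y ∈ win x 0 (t + 1), (∀ z, Commute y z) → y = 1
    intro y hy hc
    rw [htop, zero_add] at hy
    have hyn : (zpowers y).Normal := ⟨fun n hn z => by
      obtain ⟨k, rfl⟩ := mem_zpowers_iff.mp hn
      rw [← ((hc z).zpow_left k).eq, mul_inv_cancel_right]
      exact zpow_mem (mem_zpowers y) k⟩
    obtain ⟨w, hw, hwy⟩ := hy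
    have : w = y := by
      rw [zpow_one] at hwy
      have e : g * w * g⁻¹ = y := hwy
      calc w = g⁻¹ * y * g := by rw [← e]; group
        _ = y := by rw [mul_assoc, (hc g).eq, inv_mul_cancel_left]
    have hb := hcore (zpowers y) hyn (zpowers_le.mpr (this ▸ hw))
    exact zpowers_eq_bot.mp hb
  · show Nonempty (H ≃* win x 0 (t + 1))
    rw [htop]
    exact ⟨H.equivMapOfInjective _ (φ ^ ((0 : ℤ) + 1) : MulAut G).injective⟩

end Cfsg.Agent.Lib.Trivalent
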