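import Mathlib

/-!
Chains of involutions attached to a suborbit of length 3 (Sims): `win x i n` is generated by
`n` consecutive terms, and has order `2 ^ n` for `n ≤ t`.
-/

set_option autoImplicit false
set_option linter.style.haveILetI false

namespace Cfsg.Agent.Lib.Trivalent

open Subgroup

variable {G : Type*} [Group G]

/-- The subgroup generated by `x i, ..., x (i + n - 1)`. -/
def win (x : ℤ → G) (i : ℤ) (n : ℕ) : Subgroup G := closure (x '' Set.Ico i (i + n))

theorem mem_win {x : ℤ → G} {i j : ℤ} {n : ℕ} (h1 : i ≤ j) (h2 : j < i + n) : x j ∈ win x i n :=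
  subset_closure ⟨j, ⟨h1, h2⟩, rfl⟩

theorem win_mono {x : ℤ → G} {i j : ℤ} {n m : ℕ} (h1 : j ≤ i) (h2 : i + n ≤ j + m) :
    win x i n ≤ win x j m :=
  closure_mono (Set.image_mono (Set.Ico_subset_Ico h1 h2))

theorem win_zero (x : ℤ → G) (i : ℤ) : win x i 0 = ⊥ := by
  simp [win]

theorem win_le {x : ℤ → G} {i : ℤ} {n : ℕ} {S : Subgroup G}
    (h : ∀ j, i ≤ j → j < i + n → x j ∈ S) : win x i n ≤ S :=
  (closure_le S).mpr fun _ ⟨j, hj, e⟩ => e ▸ h j hj.1 hj.2

theorem win_sup {x : ℤ → G} {i : ℤ} {n : ℕ} (hn : 1 ≤ n) :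
    win x i n ⊔ win x (i + 1) n = win x i (n + 1) := by
  refine le_antisymm (sup_le (win_mono le_rfl (by omega)) (win_mono (by omega) (by omega)))
    (win_le fun j h1 h2 => ?_)
  rcases lt_or_ge j (i + n) with h | h
  · exact mem_sup_left (mem_win h1 h)
  · exact mem_sup_right (mem_win (by omega) (by omega))

/-- A chain: consecutive terms of a sequence moved by an automorphism. -/
structure Chain (G : Type*) [Group G] [Finite G] (t : ℕ) where
  x : ℤ → G
  φ : G ≃* G
  shift : ∀ i, φ (x i) = x (i + 1)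
  card_win : ∀ (i : ℤ) (n : ℕ), n ≤ t → Nat.card (win x i n) = 2 ^ n
  ne : ∀ i, win x i t ≠ win x (i + 1) t
  pos : 1 ≤ t

namespace Chain

variable [Finite G] {t : ℕ} (c : Chain G t)

theorem x_mul_self (i : ℤ) : c.x i * c.x i = 1 := by
  have h := c.card_win i 1 c.pos
  rw [pow_one] at h
  have h1 : (⟨c.x i, mem_win le_rfl (by omega)⟩ : win c.x i 1) ^ Nat.card (win c.x i 1) = 1 :=
    pow_card_eq_one'
  rw [h, sq] at h1
  exact congrArg Subtype.val h1

theorem x_inv (i : ℤ) : (c.x i)⁻¹ = c.x i := inv_eq_of_mul_eq_one_right (c.x_mul_self i)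

theorem x_ne_one (i : ℤ) : c.x i ≠ 1 := by
  intro e
  have h : win c.x i 1 = ⊥ := le_bot_iff.mp <| win_le fun j h1 h2 => by
    rw [show j = i by omega, e]; exact one_mem _
  have := c.card_win i 1 c.pos
  rw [h, card_bot] at this
  norm_num at this

/-- The reversed chain. -/
def rev : Chain G t where
  x := fun i => c.x (-i)
  φ := c.φ.symm
  shift := fun i => by
    rw [MulEquiv.symm_apply_eq, c.shift]
    congr 1; omega
  card_win := fun i n hn => by
    rw [← c.card_win (1 - i - n) n hn]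
    congr 2
    apply le_antisymm
    · exact win_le fun j h1 h2 => mem_win (by omega) (by omega)
    · refine win_le fun j h1 h2 => ?_
      have h := mem_win (x := fun i => c.x (-i)) (i := i) (n := n) (j := -j) (by omega) (by omega)
      simpa using h
  ne := fun i h => by
    refine c.ne (-(i + t)) ?_
    have e : ∀ k : ℤ, win (fun i => c.x (-i)) k t = win c.x (1 - k - t) t := by
      intro k
      apply le_antisymm
      · exact win_le fun j h1 h2 => mem_win (by omega) (by omega)
      · refine win_le fun j h1 h2 => ?_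
        have h := mem_win (x := fun i => c.x (-i)) (i := k) (n := t) (j := -j) (by omega) (by omega)
        simpa using h
    rw [e, e] at h
    rw [show -(i + t) + 1 = 1 - i - t by omega, show -(i + (t : ℤ)) = 1 - (i + 1) - t by omega]
    exact h.symm
  pos := c.pos

theorem map_shift (i : ℤ) (n : ℕ) : (win c.x i n).map c.φ.toMonoidHom = win c.x (i + 1) n := by
  rw [win, MonoidHom.map_closure, win]
  congr 1
  ext y
  constructor
  · rintro ⟨_, ⟨j, hj, rfl⟩, rfl⟩
    exact ⟨j + 1, ⟨by linarith [hj.1], by linarith [hj.2]⟩, (c.shift j).symm⟩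
  · rintro ⟨j, hj, rfl⟩
    exact ⟨c.x (j - 1), ⟨j - 1, ⟨by linarith [hj.1], by linarith [hj.2]⟩, rfl⟩, by
      show c.φ (c.x (j - 1)) = _
      rw [c.shift, sub_add_cancel]⟩

theorem commute_shift (k i : ℤ) :
    Commute (c.x i) (c.x (i + k)) ↔ Commute (c.x 0) (c.x k) := by
  induction i with
  | zero => rw [zero_add]
  | succ i ih =>
    rw [← ih, ← c.shift, show ((i : ℤ) + 1 + k) = ((i : ℤ) + k) + 1 by omega, ← c.shift]
    exact commute_map_iff c.φ.injective
  | pred i ih =>
    rw [← ih]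
    conv_rhs => rw [← sub_add_cancel (-(i : ℤ)) 1, ← c.shift,
      show -(i : ℤ) - 1 + 1 + k = (-(i : ℤ) - 1 + k) + 1 by omega, ← c.shift]
    exact (commute_map_iff c.φ.injective).symm

/-- Intersection of two neighbouring windows. -/
theorem mem_win_succ {a : ℤ} {n N : ℕ} (hn : n ≤ N) (hN : N + 1 ≤ t) {y : G}
    (h1 : y ∈ win c.x a (n + 1)) (h2 : y ∈ win c.x (a + 1) N) : y ∈ win c.x (a + 1) n := by
  have hle : win c.x (a + 1) n ≤ win c.x a (n + 1) ⊓ win c.x (a + 1) N :=
    le_inf (win_mono (by omega) (by omega)) (win_mono le_rfl (by omega))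
  have hc := card_dvd_of_le (inf_le_left : win c.x a (n + 1) ⊓ win c.x (a + 1) N ≤ _)
  rw [c.card_win a (n + 1) (by omega)] at hc
  obtain ⟨k, hk, hk'⟩ := (Nat.dvd_prime_pow Nat.prime_two).mp hc
  have hne : win c.x a (n + 1) ⊓ win c.x (a + 1) N ≠ win c.x a (n + 1) := by
    intro e
    have hsub : win c.x a (N + 1) ≤ win c.x (a + 1) N := win_le fun j h1 h2 => by
      rcases eq_or_lt_of_le h1 with rfl | h
      · exact (inf_eq_left.mp e) (mem_win le_rfl (by omega))
      · exact mem_win (by omega) (by omega)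
    have := card_le_of_le hsub
    rw [c.card_win _ _ hN, c.card_win _ _ (by omega)] at this
    exact absurd this (not_le.mpr (Nat.pow_lt_pow_right one_lt_two (by omega)))
  have hlt : Nat.card ↥(win c.x a (n + 1) ⊓ win c.x (a + 1) N) ≠ 2 ^ (n + 1) := fun e =>
    hne (eq_of_le_of_card_ge inf_le_left (by rw [e, c.card_win a (n + 1) (by omega)]))
  have hk2 : k ≤ n := by
    by_contra hh
    exact hlt (by rw [hk', show k = n + 1 by omega])
  have he := eq_of_le_of_card_ge hle (by
    rw [hk', c.card_win _ _ (by omega)]; exact Nat.pow_le_pow_right two_pos hk2)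
  rw [he]
  exact ⟨h1, h2⟩

theorem eq_one_of_mem_win {n : ℕ} : ∀ {a : ℤ} {m : ℕ}, n + m ≤ t → ∀ {y : G},
    y ∈ win c.x a n → y ∈ win c.x (a + n) m → y = 1 := by
  induction n with
  | zero => intro a m _ y hy _; rwa [win_zero, mem_bot] at hy
  | succ n ih =>
    intro a m hnm y h1 h2
    have h3 : y ∈ win c.x (a + 1) (n + m) := win_mono (by omega) (by omega) h2
    have h4 := c.mem_win_succ (by omega) (by omega) h1 h3
    exact ih (a := a + 1) (m := m) (by omega) h4 (win_mono (by omega) (by omega) h2)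

theorem normalizes_left {i : ℤ} {n : ℕ} (hn : n + 1 ≤ t) :
    win c.x i (n + 1) ≤ normalizer (win c.x i n : Set G) ∧
      win c.x i (n + 1) ≤ normalizer (win c.x (i + 1) n : Set G) := by
  have key : ∀ S : Subgroup G, S ≤ win c.x i (n + 1) → Nat.card S = 2 ^ n →
      win c.x i (n + 1) ≤ normalizer (S : Set G) := by
    intro S hS hcard
    refine (normal_subgroupOf_iff_le_normalizer hS).mp (normal_of_index_eq_two ?_)
    have h := card_mul_index (S.subgroupOf (win c.x i (n + 1)))
    rw [Nat.card_congr (subgroupOfEquivOfLe hS).toEquiv, hcard, c.card_win _ _ hn, pow_succ] at h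
    exact Nat.eq_of_mul_eq_mul_left (Nat.two_pow_pos n) h
  exact ⟨key _ (win_mono le_rfl (by omega)) (c.card_win _ _ (by omega)),
    key _ (win_mono (by omega) (by omega)) (c.card_win _ _ (by omega))⟩

open scoped commutatorElement in
theorem comm_mem {i : ℤ} {m : ℕ} (hm : 1 ≤ m) (hmt : m + 1 ≤ t) :
    ⁅c.x i, c.x (i + m)⁆ ∈ win c.x (i + 1) (m - 1) := by
  obtain ⟨hl, hr⟩ := c.normalizes_left (i := i) hmt
  set u := c.x i with hu
  set v := c.x (i + m) with hv
  have hu' : u ∈ win c.x i (m + 1) := mem_win le_rfl (by omega)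
  have hv' : v ∈ win c.x i (m + 1) := mem_win (by omega) (by omega)
  have hu1 : u ∈ win c.x i m := mem_win le_rfl (by omega)
  have hv1 : v ∈ win c.x (i + 1) m := mem_win (by omega) (by omega)
  have h1 : ⁅u, v⁆ ∈ win c.x i m := by
    rw [commutatorElement_def, show u * v * u⁻¹ * v⁻¹ = u * (v * u⁻¹ * v⁻¹) by group]
    exact mul_mem hu1 ((mem_normalizer_iff.mp (hl hv') _).mp (inv_mem hu1))
  have h2 : ⁅u, v⁆ ∈ win c.x (i + 1) m := by
    rw [commutatorElement_def]
    exact mul_mem ((mem_normalizer_iff.mp (hr hu') _).mp hv1) (inv_mem hv1)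
  rcases Nat.eq_or_lt_of_le (show 1 ≤ m from hm) with rfl | hlt
  · exact c.mem_win_succ (n := 0) (N := 1) (by omega) (by omega) h1 h2
  · obtain ⟨k, rfl⟩ : ∃ k, m = k + 1 := ⟨m - 1, by omega⟩
    exact c.mem_win_succ (n := k) (N := k + 1) (by omega) (by omega) h1 h2

/-- `d` is the least positive distance of two non-commuting terms. -/
structure Dist (d : ℕ) : Prop where
  pos : 1 ≤ d
  not_comm : ¬ Commute (c.x 0) (c.x d)
  comm : ∀ k : ℕ, k < d → Commute (c.x 0) (c.x k)

variable {c} {d : ℕ}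

theorem Dist.commute (hd : c.Dist d) {i j : ℤ} (h1 : i - j < d) (h2 : j - i < d) :
    Commute (c.x i) (c.x j) := by
  wlog h : i ≤ j generalizing i j
  · exact (this h2 h1 (by omega)).symm
  obtain ⟨k, hk⟩ : ∃ k : ℕ, j = i + k := ⟨(j - i).toNat, by omega⟩
  rw [hk, c.commute_shift]
  exact hd.comm k (by omega)

theorem Dist.not_commute (hd : c.Dist d) (i : ℤ) : ¬ Commute (c.x i) (c.x (i + d)) := by
  rw [c.commute_shift]; exact hd.not_comm

theorem Dist.rev (hd : c.Dist d) : c.rev.Dist d where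
  pos := hd.pos
  not_comm := fun h => hd.not_commute (-(d : ℤ)) (by
    have h : Commute (c.x (-0)) (c.x (-(d : ℤ))) := h
    rw [neg_zero] at h
    rw [neg_add_cancel]
    exact h.symm)
  comm := fun k hk => show Commute (c.x (-0)) (c.x (-(k : ℤ))) from
    hd.commute (by omega) (by omega)

theorem commute_of_mem_win {i : ℤ} {n : ℕ} {y v : G} (hy : y ∈ win c.x i n)
    (h : ∀ j, i ≤ j → j < i + n → Commute (c.x j) v) : Commute y v := by
  have : win c.x i n ≤ centralizer ({v} : Set G) :=
    win_le fun j h1 h2 => mem_centralizer_singleton_iff.mpr (h j h1 h2)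
  exact mem_centralizer_singleton_iff.mp (this hy)

theorem mem_win_or {i : ℤ} {n : ℕ} (hn : n + 1 ≤ t) {y : G} (hy : y ∈ win c.x i (n + 1)) :
    y ∈ win c.x (i + 1) n ∨ c.x i * y ∈ win c.x (i + 1) n := by
  by_cases h : y ∈ win c.x (i + 1) n
  · exact Or.inl h
  refine Or.inr ?_
  have hS : win c.x (i + 1) n ≤ win c.x i (n + 1) := win_mono (by omega) (by omega)
  have hidx : ((win c.x (i + 1) n).subgroupOf (win c.x i (n + 1))).index = 2 := by
    have h := card_mul_index ((win c.x (i + 1) n).subgroupOf (win c.x i (n + 1)))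
    rw [Nat.card_congr (subgroupOfEquivOfLe hS).toEquiv, c.card_win _ _ (by omega),
      c.card_win _ _ hn, pow_succ] at h
    exact Nat.eq_of_mul_eq_mul_left (Nat.two_pow_pos n) h
  have hxi : c.x i ∉ win c.x (i + 1) n := fun hx => by
    have hle : win c.x i (n + 1) ≤ win c.x (i + 1) n := win_le fun j h1 h2 => by
      rcases eq_or_lt_of_le h1 with rfl | h'
      · exact hx
      · exact mem_win (by omega) (by omega)
    exact h (hle hy)
  have := mul_mem_iff_of_index_two hidx
    (a := (⟨c.x i, mem_win le_rfl (by omega)⟩ : win c.x i (n + 1))) (b := ⟨y, hy⟩)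
  simp only [mem_subgroupOf, Subgroup.coe_mul] at this
  exact this.mpr ⟨fun hh => absurd hh hxi, fun hh => absurd hh h⟩

open scoped commutatorElement in
/-- The commutator of `x 0` and `x d` involves only `x j` with `t ≤ j + d`. -/
theorem Dist.low (hd : c.Dist d) (hdt : d + 1 ≤ t) :
    ∀ m : ℕ, 1 ≤ m → m ≤ d → m + d ≤ t → ⁅c.x 0, c.x d⁆ ∈ win c.x m (d - m) := by
  intro m hm
  induction m, hm using Nat.le_induction with
  | base =>
    intro _ _
    simpa using c.comm_mem (i := 0) hd.pos hdt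
  | succ m hm ih =>
    intro hmd hmt
    have hz := ih (by omega) (by omega)
    set z := ⁅c.x 0, c.x d⁆ with hzdef
    have hwv : Commute (c.x ((m + d : ℕ) : ℤ)) (c.x d) :=
      hd.commute (by push_cast; omega) (by push_cast; omega)
    set w := c.x ((m + d : ℕ) : ℤ) with hw
    have hmem : ⁅c.x 0, w⁆ ∈ win c.x 1 (m + d - 1) := by
      simpa [hw] using c.comm_mem (i := 0) (m := m + d) (by omega) (by omega)
    have hcv : Commute ⁅c.x 0, w⁆ (c.x d) :=
      commute_of_mem_win hmem fun j h1 h2 => hd.commute (by omega) (by omega)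
    have hzw : Commute z w := by
      have hu : w * c.x 0 * w⁻¹ = ⁅c.x 0, w⁆⁻¹ * c.x 0 := by rw [commutatorElement_def]; group
      have hconj : w * z * w⁻¹ = ⁅⁅c.x 0, w⁆⁻¹ * c.x 0, c.x d⁆ := by
        rw [← hu, hzdef, conjugate_commutatorElement]
        congr 1
        rw [hwv.eq, mul_inv_cancel_right]
      have he : ⁅⁅c.x 0, w⁆⁻¹ * c.x 0, c.x d⁆ = ⁅c.x 0, w⁆⁻¹ * z * ⁅c.x 0, w⁆ := by
        have e := hcv.eq
        have e' : c.x d * ⁅c.x 0, w⁆ = ⁅c.x 0, w⁆ * c.x d := e.symm
        simp only [commutatorElement_def (⁅c.x 0, w⁆⁻¹ * c.x 0) (c.x d), hzdef,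
          commutatorElement_def (c.x 0) (c.x d), mul_inv_rev, inv_inv]
        calc _ = ⁅c.x 0, w⁆⁻¹ * c.x 0 * c.x d * (c.x 0)⁻¹ * ((⁅c.x 0, w⁆ * (c.x d)⁻¹)) := by
              group
          _ = _ := by rw [show ⁅c.x 0, w⁆ * (c.x d)⁻¹ = (c.x d)⁻¹ * ⁅c.x 0, w⁆ from
              (hcv.inv_right).eq]; group
      have hzc : Commute z ⁅c.x 0, w⁆ := by
        refine commute_of_mem_win hz fun j h1 h2 => (commute_of_mem_win hmem fun k h3 h4 => ?_).symm
        exact hd.commute (by omega) (by omega)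
      rw [he, mul_assoc ⁅c.x 0, w⁆⁻¹, hzc.eq, inv_mul_cancel_left] at hconj
      exact (mul_inv_eq_iff_eq_mul.mp hconj).symm
    obtain ⟨k, hk⟩ : ∃ k, d - m = k + 1 := ⟨d - m - 1, by omega⟩
    rw [hk] at hz
    rw [show d - (m + 1) = k by omega]
    push_cast
    rcases mem_win_or (by omega) hz with h | h
    · exact h
    exfalso
    have h1 : Commute (c.x m * z) w :=
      commute_of_mem_win h fun j h1 h2 => hd.commute (by push_cast; omega) (by push_cast; omega)
    have h2 : Commute (c.x m) w := by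
      have := h1.mul_left hzw.inv_left
      rwa [mul_inv_cancel_right] at this
    exact hd.not_commute m (by rw [hw] at h2; exact_mod_cast h2)

end Chain

end Cfsg.Agent.Lib.Trivalent
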