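import Cfsg.Agent.Lib.Trivalent.Basic

/-!
The bound `t ≤ 4` for chains whose `t + 1` windows are maximal subgroups of index-3 type.
-/

set_option autoImplicit false
set_option linter.style.haveILetI false

namespace Cfsg.Agent.Lib.Trivalent

open Subgroup

open scoped commutatorElement

variable {G : Type*} [Group G] [Finite G] {t : ℕ}

/-- The windows of length `t + 1` are maximal subgroups of order `3 * 2 ^ t`. -/
structure Tri (c : Chain G t) : Prop where
  card_top : ∀ i, Nat.card (win c.x i (t + 1)) = 3 * 2 ^ t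
  coatom : ∀ i, IsCoatom (win c.x i (t + 1))
  ne_top : ∀ i, win c.x i (t + 1) ≠ win c.x (i + 1) (t + 1)
  center : ∀ y ∈ win c.x 0 (t + 1), (∀ z, Commute y z) → y = 1

variable {c : Chain G t} {d : ℕ}

theorem Tri.sup_top (h : Tri c) (i : ℤ) :
    win c.x i (t + 1) ⊔ win c.x (i + 1) (t + 1) = ⊤ := by
  refine (h.coatom i).2 _ (lt_of_le_of_ne le_sup_left fun e => h.ne_top i ?_)
  exact (eq_of_le_of_card_ge (e ▸ le_sup_right : win c.x (i + 1) (t + 1) ≤ win c.x i (t + 1))
    (by rw [h.card_top, h.card_top])).symm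

theorem Tri.eq_one_of_commute (h : Tri c) {y : G} (hy : y ∈ win c.x 0 (t + 1))
    (hc : ∀ j : ℤ, 0 ≤ j → j ≤ t + 1 → Commute y (c.x j)) : y = 1 := by
  refine h.center y hy fun z => ?_
  have hle : (⊤ : Subgroup G) ≤ centralizer ({y} : Set G) := by
    rw [← h.sup_top 0]
    exact sup_le
      (win_le fun j h1 h2 => mem_centralizer_singleton_iff.mpr (hc j h1 (by omega)).eq.symm)
      (win_le fun j h1 h2 =>
        mem_centralizer_singleton_iff.mpr (hc j (by omega) (by omega)).eq.symm)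
  exact (mem_centralizer_singleton_iff.mp (hle (mem_top z))).symm

theorem Tri.exists_dist (h : Tri c) : ∃ d, c.Dist d ∧ d ≤ t := by
  classical
  by_cases he : ∃ k : ℕ, 1 ≤ k ∧ k ≤ t ∧ ¬ Commute (c.x 0) (c.x k)
  · obtain ⟨h1, h2, h3⟩ := Nat.find_spec he
    refine ⟨Nat.find he, ⟨h1, h3, fun k hk => ?_⟩, h2⟩
    rcases Nat.eq_zero_or_pos k with rfl | hk0
    · exact Commute.refl _
    · by_contra hc
      exact Nat.find_min he hk ⟨hk0, by omega, hc⟩
  exfalso
  push Not at he
  have hc : ∀ i j : ℤ, 0 ≤ i → i < 0 + (t + 1 : ℕ) → 0 ≤ j → j < 0 + (t + 1 : ℕ) →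
      Commute (c.x i) (c.x j) := by
    intro i j h1 h2 h3 h4
    wlog hij : i ≤ j generalizing i j
    · exact (this j i h3 h4 h1 h2 (by omega)).symm
    obtain ⟨k, rfl⟩ : ∃ k : ℕ, j = i + k := ⟨(j - i).toNat, by omega⟩
    rw [c.commute_shift]
    rcases Nat.eq_zero_or_pos k with rfl | hk0
    · exact Commute.refl _
    · exact he k hk0 (by omega)
  have hab : ∀ j : ℤ, 0 ≤ j → j < 0 + (t + 1 : ℕ) → ∀ y ∈ win c.x 0 (t + 1), Commute y (c.x j) :=
    fun j h1 h2 y hy => Chain.commute_of_mem_win hy fun i h3 h4 => hc i j h3 h4 h1 h2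
  have hS : win c.x 0 (t + 1) ≤ normalizer (win c.x 0 t : Set G) := by
    refine win_le fun j h1 h2 => ?_
    refine Subgroup.centralizer_le_normalizer _ (mem_centralizer_iff.mpr fun y hy => ?_)
    exact (hab j h1 h2 y (win_mono le_rfl (by omega) hy)).eq
  have hP : IsPGroup 2 (win c.x 0 t) := IsPGroup.of_card (c.card_win 0 t le_rfl)
  have hQ : IsPGroup 2 (win c.x 1 t) := IsPGroup.of_card (c.card_win 1 t le_rfl)
  have hle1 : win c.x 1 t ≤ win c.x 0 (t + 1) := win_mono (by omega) (by omega)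
  obtain ⟨k, hk⟩ := IsPGroup.iff_card.mp (hQ.to_sup_of_normal_right' hP (hle1.trans hS))
  have hdvd : Nat.card ↥(win c.x 1 t ⊔ win c.x 0 t) ∣ 3 * 2 ^ t := by
    rw [← h.card_top 0]; exact card_dvd_of_le (sup_le hle1 (win_mono le_rfl (by omega)))
  rw [hk] at hdvd
  have h2 : 2 ^ k ∣ 2 ^ t := (Nat.Coprime.pow_left k (by norm_num)).dvd_of_dvd_mul_left hdvd
  have h3 : win c.x 1 t ⊔ win c.x 0 t = win c.x 0 t :=
    (eq_of_le_of_card_ge le_sup_right (by
      rw [hk, c.card_win 0 t le_rfl]; exact Nat.le_of_dvd (Nat.two_pow_pos t) h2)).symm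
  refine c.ne 0 (eq_of_le_of_card_ge (sup_eq_right.mp h3) ?_).symm
  rw [c.card_win 0 t le_rfl, c.card_win _ t le_rfl]

theorem Tri.two_mul_le (h : Tri c) (hd : c.Dist d) (hdt : d ≤ t) : 2 * d ≤ t + 2 := by
  by_contra hh
  refine c.x_ne_one ((d : ℤ) - 1) (h.eq_one_of_commute
    (mem_win (by have := hd.pos; omega) (by omega)) fun j h1 h2 => hd.commute (by omega) (by omega))

theorem two_le_dist (ht : 2 ≤ t) (hd : c.Dist d) : 2 ≤ d := by
  by_contra hh
  have hd1 : d = 1 := by have := hd.pos; omega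
  subst hd1
  refine hd.not_comm ?_
  haveI : Fact (Nat.Prime 2) := ⟨Nat.prime_two⟩
  have hc : IsMulCommutative (win c.x 0 2) :=
    IsPGroup.isMulCommutative_of_card_eq_prime_sq (c.card_win 0 2 ht)
  have := hc.is_comm.comm (⟨c.x 0, mem_win le_rfl (by omega)⟩ : win c.x 0 2)
    ⟨c.x 1, mem_win (by omega) (by omega)⟩
  exact congrArg Subtype.val this

theorem Chain.comm_ne_one (c : Chain G t) {d : ℕ} (hd : c.Dist d) : ⁅c.x 0, c.x d⁆ ≠ 1 :=
  fun e => hd.not_comm (commutatorElement_eq_one_iff_commute.mp e)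

theorem Chain.lt_two_mul (c : Chain G t) {d : ℕ} (hd : c.Dist d) (hdt : d + 1 ≤ t) :
    t + 1 ≤ 2 * d := by
  by_contra hh
  refine c.comm_ne_one hd ?_
  have := hd.low hdt d hd.pos le_rfl (by omega)
  rwa [Nat.sub_self, win_zero, mem_bot] at this

theorem Chain.mem_low (c : Chain G t) {d : ℕ} (hd : c.Dist d) (hdt : d + 1 ≤ t) :
    ⁅c.x 0, c.x d⁆ ∈ win c.x (t - d : ℕ) (2 * d - t) := by
  have h2 := c.lt_two_mul hd hdt
  have := hd.low hdt (t - d) (by omega) (by omega) (by omega)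
  rwa [show d - (t - d) = 2 * d - t by omega] at this

theorem Chain.map_iter (c : Chain G t) (k : ℕ) :
    ∀ i : ℤ, (c.φ.toMonoidHom)^[k] (c.x i) = c.x (i + k) := by
  induction k with
  | zero => simp
  | succ k ih =>
    intro i
    rw [Function.iterate_succ_apply', ih]
    show c.φ (c.x (i + k)) = _
    rw [c.shift]; congr 1; push_cast; omega

theorem Chain.mem_high (c : Chain G t) {d : ℕ} (hd : c.Dist d) (hdt : d + 1 ≤ t) :
    ⁅c.x 0, c.x d⁆ ∈ win c.x 1 (2 * d - t) := by
  have h2 := c.lt_two_mul hd hdt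
  have h : ⁅c.x (-0), c.x (-(d : ℤ))⁆ ∈ win (fun i => c.x (-i)) (t - d : ℕ) (2 * d - t) :=
    c.rev.mem_low hd.rev hdt
  rw [neg_zero] at h
  let ψ : ℕ → G →* G := fun k => Nat.rec (MonoidHom.id G) (fun _ f => c.φ.toMonoidHom.comp f) k
  have hψ : ∀ (k : ℕ) (i : ℤ), ψ k (c.x i) = c.x (i + k) := by
    intro k
    induction k with
    | zero => intro i; show c.x i = _; simp
    | succ k ih =>
      intro i
      show c.φ (ψ k (c.x i)) = _
      rw [ih, c.shift]; congr 1; push_cast; omega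
  have h3 := mem_map_of_mem (ψ d) h
  rw [map_commutatorElement, hψ, hψ, zero_add, neg_add_cancel] at h3
  have h4 : (win (fun i => c.x (-i)) ((t - d : ℕ) : ℤ) (2 * d - t)).map (ψ d) ≤
      win c.x 1 (2 * d - t) := by
    rw [map_le_iff_le_comap]
    refine win_le fun j h5 h6 => ?_
    rw [mem_comap, hψ]
    exact mem_win (by omega) (by omega)
  rw [← commutatorElement_inv]
  exact inv_mem (h4 h3)

theorem Chain.two_mul_le_three (c : Chain G t) {d : ℕ} (hd : c.Dist d) (hdt : d + 1 ≤ t) :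
    2 * t ≤ 3 * d := by
  by_contra hh
  have h2 := c.lt_two_mul hd hdt
  refine c.comm_ne_one hd (c.eq_one_of_mem_win (n := 2 * d - t) (a := 1) (m := d - 1 - (2 * d - t))
    (by omega) (c.mem_high hd hdt) (win_mono ?_ ?_ (c.mem_low hd hdt))) <;> omega

theorem conj_mem_of_normalized {S T : Subgroup G} (h : S ≤ normalizer (T : Set G)) {s a : G}
    (hs : s ∈ S) (ha : a ∈ T) : s * a * s⁻¹ ∈ T :=
  (mem_normalizer_iff.mp (h hs) a).mp ha

/-- A normal 2-subgroup lies in every subgroup of order `2 ^ t`. -/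
theorem le_of_normalized {K X S : Subgroup G} (hK : Nat.card K = 3 * 2 ^ t) (hXK : X ≤ K)
    (hn : K ≤ normalizer (X : Set G)) (hX : IsPGroup 2 X) (hSK : S ≤ K)
    (hS : Nat.card S = 2 ^ t) : X ≤ S := by
  have hP : IsPGroup 2 S := IsPGroup.of_card hS
  obtain ⟨k, hk⟩ := IsPGroup.iff_card.mp (hP.to_sup_of_normal_right' hX (hSK.trans hn))
  have hdvd : Nat.card ↥(S ⊔ X) ∣ 3 * 2 ^ t := by
    rw [← hK]; exact card_dvd_of_le (sup_le hSK hXK)
  rw [hk] at hdvd
  have h2 : 2 ^ k ∣ 2 ^ t := (Nat.Coprime.pow_left k (by norm_num)).dvd_of_dvd_mul_left hdvd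
  have e := eq_of_le_of_card_ge (le_sup_left : S ≤ S ⊔ X) (by
    rw [hk, hS]; exact Nat.le_of_dvd (Nat.two_pow_pos t) h2)
  exact sup_eq_left.mp e.symm

theorem Tri.inf_eq (h : Tri c) (i : ℤ) :
    win c.x i (t + 1) ⊓ win c.x (i + 1) (t + 1) = win c.x (i + 1) t := by
  have hle : win c.x (i + 1) t ≤ win c.x i (t + 1) ⊓ win c.x (i + 1) (t + 1) :=
    le_inf (win_mono (by omega) (by omega)) (win_mono le_rfl (by omega))
  refine (eq_of_le_of_card_ge hle ?_).symm
  have h1 := card_dvd_of_le hle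
  have h2 := card_dvd_of_le (inf_le_left : win c.x i (t + 1) ⊓ win c.x (i + 1) (t + 1) ≤ _)
  rw [c.card_win _ _ le_rfl] at h1
  rw [h.card_top] at h2
  obtain ⟨q, hq⟩ := h1
  rw [hq, mul_comm (2 ^ t) q] at h2
  have h3 : q ∣ 3 := (Nat.mul_dvd_mul_iff_right (Nat.two_pow_pos t)).mp h2
  rcases (Nat.dvd_prime Nat.prime_three).mp h3 with rfl | rfl
  · rw [c.card_win _ _ le_rfl, hq, mul_one]
  · exfalso
    refine h.ne_top i ?_
    have e : win c.x i (t + 1) ⊓ win c.x (i + 1) (t + 1) = win c.x i (t + 1) :=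
      eq_of_le_of_card_ge inf_le_left (by rw [h.card_top, hq, mul_comm])
    exact eq_of_le_of_card_ge (inf_eq_left.mp e) (by rw [h.card_top, h.card_top])

/-- The length `6` is impossible. -/
theorem Tri.not_six {c : Chain G 6} (h : Tri c) (hd : c.Dist 4) : False := by
  have hz := c.mem_high hd (by omega)
  have hz' := c.mem_low hd (by omega)
  norm_num at hz hz'
  have hz2 : ⁅c.x 0, c.x 4⁆ ∈ win c.x 2 1 :=
    c.mem_win_succ (a := 1) (n := 1) (N := 2) (by omega) (by omega) hz hz'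
  have hzv : ⁅c.x 0, c.x 4⁆ = c.x 2 := by
    have hle : ∀ y ∈ win c.x 2 1, y = 1 ∨ y = c.x 2 := by
      intro y hy
      have hlez : win c.x 2 1 ≤ zpowers (c.x 2) := win_le fun j h1 h2 => by
        rw [show j = 2 by omega]; exact mem_zpowers _
      obtain ⟨k, rfl⟩ := mem_zpowers_iff.mp (hlez hy)
      rcases Int.even_or_odd' k with ⟨m, rfl | rfl⟩
      · left; rw [zpow_mul, zpow_two, c.x_mul_self, one_zpow]
      · right; rw [zpow_add, zpow_mul, zpow_two, c.x_mul_self, one_zpow, one_mul, zpow_one]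
    exact (hle _ hz2).resolve_left (c.comm_ne_one hd)
  let ψ : G →* G := c.φ.toMonoidHom.comp c.φ.toMonoidHom
  have hψ : ∀ i, ψ (c.x i) = c.x (i + 2) := fun i => by
    show c.φ (c.φ (c.x i)) = _
    rw [c.shift, c.shift]; congr 1; omega
  have hz6 : ⁅c.x 2, c.x 6⁆ = c.x 4 := by
    have := congrArg ψ hzv
    rw [map_commutatorElement, hψ, hψ, hψ] at this
    norm_num at this
    exact this
  rw [commutatorElement_def, c.x_inv, c.x_inv] at hzv hz6
  have hc : ∀ i j : ℤ, i - j < 4 → j - i < 4 → c.x i * c.x j = c.x j * c.x i := fun i j h1 h2 =>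
    (hd.commute (by push_cast; omega) (by push_cast; omega)).eq
  have h04 : c.x 0 * c.x 4 * c.x 0 = c.x 2 * c.x 4 := by
    rw [← hzv, mul_assoc _ (c.x 4) (c.x 4), c.x_mul_self, mul_one]
  have h62 : c.x 6 * c.x 2 * c.x 6 = c.x 2 * c.x 4 := by
    rw [← hz6]
    simp only [← mul_assoc, c.x_mul_self, one_mul]
  set g := c.x 6 * c.x 0 with hg
  have hginv : g⁻¹ = c.x 0 * c.x 6 := by rw [hg, mul_inv_rev, c.x_inv, c.x_inv]
  have hg4 : g * c.x 4 * g⁻¹ = c.x 2 := by
    rw [hginv, hg]
    calc c.x 6 * c.x 0 * c.x 4 * (c.x 0 * c.x 6)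
        = c.x 6 * (c.x 0 * c.x 4 * c.x 0) * c.x 6 := by group
      _ = (c.x 6 * c.x 2 * c.x 6) * (c.x 6 * c.x 4 * c.x 6) := by
          rw [h04]
          simp only [← mul_assoc]
          rw [mul_assoc _ (c.x 6) (c.x 6), c.x_mul_self, mul_one]
      _ = c.x 2 := by
          rw [h62, hc 6 4 (by omega) (by omega), mul_assoc (c.x 4), c.x_mul_self, mul_one,
            mul_assoc, c.x_mul_self, mul_one]
  have hcen : ∀ i : ℤ, centralizer ({c.x (i + 3)} : Set G) = win c.x i 7 := by
    intro i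
    have hle : win c.x i 7 ≤ centralizer ({c.x (i + 3)} : Set G) :=
      win_le fun j h1 h2 => mem_centralizer_singleton_iff.mpr (hc _ _ (by omega) (by omega))
    refine ((h.coatom i).le_iff.mp hle).resolve_left fun e => c.x_ne_one 3 ?_
    refine h.eq_one_of_commute (mem_win (by omega) (by omega)) fun j h1 h2 => ?_
    have hcj : ∀ z, Commute (c.x (i + 3)) z := fun z =>
      (mem_centralizer_singleton_iff.mp (e ▸ mem_top z)).symm
    rw [show j = 3 + (j - 3) by omega, c.commute_shift, ← c.commute_shift (j - 3) (i + 3)]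
    exact hcj _
  have hg1 : g ∈ win c.x 0 7 :=
    mul_mem (mem_win (by omega) (by omega)) (mem_win le_rfl (by omega))
  set m : G →* G := (MulAut.conj g).toMonoidHom with hm
  have hmK : (win c.x 1 7).map m = win c.x (-1) 7 := by
    rw [← hcen 1, ← hcen (-1)]
    norm_num
    ext y
    rw [mem_map_equiv (f := MulAut.conj g), mem_centralizer_singleton_iff, MulAut.conj_symm_apply,
      mem_centralizer_singleton_iff, ← hg4]
    constructor <;> intro e
    · calc y * (g * c.x 4 * g⁻¹) = g * (g⁻¹ * y * g * c.x 4) * g⁻¹ := by group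
        _ = g * (c.x 4 * (g⁻¹ * y * g)) * g⁻¹ := by rw [e]
        _ = _ := by group
    · calc g⁻¹ * y * g * c.x 4 = g⁻¹ * (y * (g * c.x 4 * g⁻¹)) * g := by group
        _ = g⁻¹ * ((g * c.x 4 * g⁻¹) * y) * g := by rw [e]
        _ = _ := by group
  have hm0 : (win c.x 0 7).map m = win c.x 0 7 := by
    ext y
    rw [mem_map_equiv (f := MulAut.conj g), MulAut.conj_symm_apply]
    exact ⟨fun hy => by simpa [mul_assoc] using mul_mem (mul_mem hg1 hy) (inv_mem hg1),
      fun hy => mul_mem (mul_mem (inv_mem hg1) hy) hg1⟩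
  have hmP : (win c.x 1 6).map m ≤ win c.x 0 6 := by
    have e1 := h.inf_eq 0
    have e2 := h.inf_eq (-1)
    norm_num at e1 e2
    rw [← e1, ← e2]
    refine (map_inf_le _ _ m).trans ?_
    rw [hm0, hmK, inf_comm]
  set X := (win c.x 2 5).map m with hX
  have hX0 : X ≤ win c.x 0 6 := (map_mono (win_mono (by omega) (by omega))).trans hmP
  have hn7 : win c.x 1 7 ≤ normalizer (win c.x 2 5 : Set G) := by
    rw [show (7 : ℕ) = 6 + 1 from rfl, ← win_sup (x := c.x) (by omega)]
    exact sup_le (c.normalizes_left (i := 1) (n := 5) le_rfl).2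
      (c.normalizes_left (i := 2) (n := 5) le_rfl).1
  have hXn : win c.x (-1) 7 ≤ normalizer (X : Set G) := by
    rw [← hmK]
    exact (map_mono hn7).trans (le_normalizer_map m)
  have hXcard : Nat.card X = 2 ^ 5 := by
    rw [hX, ← c.card_win 2 5 (by omega)]
    exact (Nat.card_congr ((win c.x 2 5).equivMapOfInjective _ (MulAut.conj g).injective).toEquiv).symm
  have hX1 : X ≤ win c.x (-1) 6 :=
    le_of_normalized (h.card_top (-1)) (hX0.trans (win_mono (by omega) (by omega))) hXn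
      (IsPGroup.of_card hXcard) (win_mono le_rfl (by omega)) (c.card_win _ _ le_rfl)
  have hXeq : X = win c.x 0 5 := by
    have hle : win c.x (-1) 6 ⊓ win c.x 0 6 = win c.x 0 5 := by
      refine le_antisymm (fun y hy => ?_) (le_inf (win_mono (by omega) (by omega))
        (win_mono le_rfl (by omega)))
      have hcard := card_dvd_of_le (inf_le_left : win c.x (-1) 6 ⊓ win c.x 0 6 ≤ _)
      rw [c.card_win _ _ le_rfl] at hcard
      obtain ⟨k, hk, hk'⟩ := (Nat.dvd_prime_pow Nat.prime_two).mp hcard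
      have hle5 : win c.x 0 5 ≤ win c.x (-1) 6 ⊓ win c.x 0 6 :=
        le_inf (win_mono (by omega) (by omega)) (win_mono le_rfl (by omega))
      have hk6 : k ≠ 6 := fun e => by
        refine c.ne (-1) ?_
        rw [show (-1 : ℤ) + 1 = 0 by norm_num]
        have e' : win c.x (-1) 6 ⊓ win c.x 0 6 = win c.x (-1) 6 :=
          eq_of_le_of_card_ge inf_le_left (by rw [hk', e, c.card_win _ _ le_rfl])
        exact eq_of_le_of_card_ge (inf_eq_left.mp e')
          (by rw [c.card_win _ _ le_rfl, c.card_win _ _ le_rfl])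
      have e5 := eq_of_le_of_card_ge hle5 (by
        rw [hk', c.card_win _ _ (by omega)]; exact Nat.pow_le_pow_right two_pos (by omega))
      rwa [e5]
    refine eq_of_le_of_card_ge (hle ▸ le_inf hX1 hX0) ?_
    rw [hXcard, c.card_win _ _ (by omega)]
  have hcomm : Commute (g * c.x 5 * g⁻¹) (c.x 1) := by
    have h1 : c.x 1 ∈ X := by rw [hXeq]; exact mem_win (by omega) (by omega)
    obtain ⟨y, hy, e⟩ := h1
    rw [← e]
    exact Commute.map ((Chain.commute_of_mem_win hy fun j h1 h2 =>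
      hd.commute (by push_cast; omega) (by push_cast; omega)).symm) m
  set w := c.x 5 * (c.x 0 * c.x 5 * c.x 0) with hw
  have hw4 : w ∈ win c.x 1 4 := by
    have := c.comm_mem (i := 0) (m := 5) (by omega) (by omega)
    norm_num at this
    rw [commutatorElement_def, c.x_inv, c.x_inv] at this
    have := inv_mem this
    rw [mul_inv_rev, mul_inv_rev, mul_inv_rev, c.x_inv, c.x_inv] at this
    simpa [hw, mul_assoc] using this
  have hab : ∀ y ∈ win c.x 1 4, Commute y w := fun y hy =>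
    Chain.commute_of_mem_win hy fun j h1 h2 =>
      (Chain.commute_of_mem_win hw4 fun k h3 h4 => hd.commute (by push_cast; omega) (by push_cast; omega)).symm
  have hw2 : w * w = 1 := by
    have hle : win c.x 1 4 ≤ centralizer (win c.x 1 4 : Set G) := fun a ha =>
      mem_centralizer_iff.mpr fun b hb => (Chain.commute_of_mem_win hb fun j h1 h2 =>
        (Chain.commute_of_mem_win ha fun k h3 h4 =>
          hd.commute (by push_cast; omega) (by push_cast; omega)).symm).eq
    refine closure_induction (p := fun y _ => y * y = 1) (fun y hy => ?_) (one_mul 1)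
      (fun a b ha hb iha ihb => ?_) (fun a _ iha => by rw [← mul_inv_rev, iha, inv_one]) hw4
    · obtain ⟨j, -, rfl⟩ := hy; exact c.x_mul_self j
    · rw [mul_assoc, ← mul_assoc b a b, ← mem_centralizer_iff.mp (hle hb) a ha, mul_assoc a b b,
        ihb, mul_one, iha]
  have hw5 : Commute w (c.x 5) := by
    have h5 : (c.x 0 * c.x 5 * c.x 0) * (c.x 0 * c.x 5 * c.x 0) = 1 := by
      simp only [← mul_assoc]
      rw [mul_assoc _ (c.x 0) (c.x 0), c.x_mul_self, mul_one, mul_assoc _ (c.x 5) (c.x 5),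
        c.x_mul_self, mul_one, c.x_mul_self]
    have e : c.x 0 * c.x 5 * c.x 0 = c.x 5 * w := by
      rw [hw, ← mul_assoc (c.x 5), c.x_mul_self, one_mul]
    rw [e, mul_assoc, ← mul_assoc w, ← mul_assoc, mul_eq_one_iff_eq_inv,
      inv_eq_of_mul_eq_one_right hw2] at h5
    have h6 : c.x 5 * w * c.x 5 = w := (mul_assoc _ _ _).trans h5
    show w * c.x 5 = c.x 5 * w
    conv_lhs => rw [← h6, mul_assoc, c.x_mul_self, mul_one]
  have hw23 : w ∈ win c.x 2 3 := by
    rcases Chain.mem_win_or (i := 1) (n := 3) (by omega) hw4 with h | h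
    · exact h
    exfalso
    have h1 : Commute (c.x 1 * w) (c.x 5) := Chain.commute_of_mem_win h fun j h1 h2 =>
      hd.commute (by push_cast; omega) (by push_cast; omega)
    have := h1.mul_left hw5.inv_left
    rw [mul_inv_cancel_right] at this
    exact hd.not_commute 1 (by push_cast; norm_num; exact this)
  have hw' : c.x 6 * w * c.x 6 ∈ win c.x 2 3 := by
    have hle : (win c.x 2 3).map (MulAut.conj (c.x 6)).toMonoidHom ≤ win c.x 2 3 := by
      rw [map_le_iff_le_comap]
      refine win_le fun j h1 h2 => ?_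
      rw [mem_comap, MulEquiv.coe_toMonoidHom, MulAut.conj_apply, c.x_inv]
      rcases (show j = 2 ∨ j = 3 ∨ j = 4 by omega) with rfl | rfl | rfl
      · rw [h62]; exact mul_mem (mem_win le_rfl (by omega)) (mem_win (by omega) (by omega))
      all_goals
        rw [hc 6 _ (by omega) (by omega), mul_assoc, c.x_mul_self, mul_one]
        exact mem_win (by omega) (by omega)
    have := hle (mem_map_of_mem _ hw23)
    rw [MulEquiv.coe_toMonoidHom, MulAut.conj_apply, c.x_inv] at this
    exact this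
  have hg5 : g * c.x 5 * g⁻¹ = c.x 5 * (c.x 6 * w * c.x 6) := by
    rw [hginv, hg, hw]
    calc c.x 6 * c.x 0 * c.x 5 * (c.x 0 * c.x 6)
        = c.x 6 * (c.x 0 * c.x 5 * c.x 0) * c.x 6 := by group
      _ = (c.x 5 * c.x 5) * (c.x 6 * (c.x 0 * c.x 5 * c.x 0) * c.x 6) := by
          rw [c.x_mul_self, one_mul]
      _ = c.x 5 * (c.x 5 * c.x 6 * (c.x 0 * c.x 5 * c.x 0) * c.x 6) := by group
      _ = _ := by rw [← hc 6 5 (by omega) (by omega)]; group
  rw [hg5] at hcomm
  have hv : Commute (c.x 6 * w * c.x 6) (c.x 1) := Chain.commute_of_mem_win hw' fun j h1 h2 =>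
    hd.commute (by push_cast; omega) (by push_cast; omega)
  have := hcomm.mul_left hv.inv_left
  rw [mul_inv_cancel_right] at this
  exact hd.not_commute 1 (by push_cast; norm_num; exact this.symm)

/-- The possible shapes. -/
theorem Tri.shape (h : Tri c) (hd : c.Dist d) (hdt : d ≤ t) :
    t = 1 ∨ (t = 2 ∧ d = 2) ∨ (t = 3 ∧ d = 2) ∨ (t = 4 ∧ d = 3) := by
  have h1 := h.two_mul_le hd hdt
  have h3 := hd.pos
  rcases Nat.lt_or_ge t 2 with ht | ht
  · have := c.pos; left; omega
  have h2 := two_le_dist ht hd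
  rcases Nat.eq_or_lt_of_le hdt with rfl | hlt
  · omega
  have h4 := c.two_mul_le_three hd hlt
  have h5 : ¬ (t = 6 ∧ d = 4) := by
    rintro ⟨rfl, rfl⟩
    exact h.not_six hd
  omega

end Cfsg.Agent.Lib.Trivalent
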