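import Cfsg.Agent.Lib.Trivalent.Bound
import Cfsg.Agent.Lib.SL2.SmallId
import Cfsg.Agent.Lib.LinGroup.ProjLine
import Cfsg.Agent.Lib.Classical.Dihedral
import Cfsg.Agent.S0206

/-!
The isomorphism type of the top window.
-/

set_option autoImplicit false
set_option linter.style.haveILetI false

namespace Cfsg.Agent.Lib.Trivalent

open Subgroup

open scoped commutatorElement

variable {G : Type*} [Group G] [Finite G] {t : ℕ} {c : Chain G t} {d : ℕ}

theorem mem_normalizer_of_map {S : Subgroup G} {w : G}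
    (h : S.map (MulAut.conj w).toMonoidHom ≤ S) : w ∈ normalizer (S : Set G) := by
  have e : S.map (MulAut.conj w).toMonoidHom = S :=
    eq_of_le_of_card_ge h (card_map_of_injective (MulAut.conj w).injective).ge
  rw [mem_normalizer_iff]
  intro y
  constructor
  · intro hy
    exact h (mem_map_of_mem _ hy)
  · intro hy
    rw [← e] at hy
    obtain ⟨z, hz, e'⟩ := hy
    rwa [(MulAut.conj w).injective e'] at hz

theorem ztwo_cases : ∀ a : Multiplicative (ZMod 2), a = 1 ∨ ∀ b, b ≠ 1 → b = a := by decide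

theorem ztwo_cube : ∀ a : Multiplicative (ZMod 2), a ^ 3 = 1 → a = 1 := by decide

theorem Tri.not_isPGroup (h : Tri c) {S : Subgroup G} (hS : IsPGroup 2 S)
    (hle : win c.x 0 (t + 1) ≤ S) : False := by
  obtain ⟨k, hk⟩ := IsPGroup.iff_card.mp hS
  have := card_dvd_of_le hle
  rw [h.card_top, hk] at this
  have h3 : 3 ∣ 2 ^ k := (Dvd.intro _ rfl).trans this
  exact absurd (Nat.prime_three.dvd_of_dvd_pow h3) (by norm_num)

theorem Chain.top_le_normalizer (c : Chain G t) :
    win c.x 0 (t + 1) ≤ normalizer (win c.x 1 (t - 1) : Set G) := by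
  obtain ⟨n, rfl⟩ : ∃ n, t = n + 1 := ⟨t - 1, by have := c.pos; omega⟩
  rw [Nat.add_sub_cancel, ← win_sup (x := c.x) (by omega)]
  exact sup_le (c.normalizes_left (i := 0) (n := n) le_rfl).2
    (c.normalizes_left (i := 1) (n := n) le_rfl).1

/-- An element of order 3 inverted by `x 0`. -/
theorem Tri.exists_omega (h : Tri c) :
    ∃ w ∈ win c.x 0 (t + 1), orderOf w = 3 ∧ c.x 0 * w * (c.x 0)⁻¹ = w⁻¹ := by
  set a := c.x 0 * c.x t with ha
  have haK : a ∈ win c.x 0 (t + 1) :=
    mul_mem (mem_win le_rfl (by omega)) (mem_win (by omega) (by omega))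
  refine ⟨a ^ (2 ^ t), pow_mem haK _, orderOf_eq_prime (hp := ⟨Nat.prime_three⟩) ?_ ?_, ?_⟩
  · rw [← pow_mul, mul_comm, ← h.card_top 0]
    exact congrArg Subtype.val (pow_card_eq_one' (x := (⟨a, haK⟩ : win c.x 0 (t + 1))))
  · intro e
    haveI : Fact (Nat.Prime 2) := ⟨Nat.prime_two⟩
    obtain ⟨k, -, hk⟩ := (Nat.dvd_prime_pow Nat.prime_two).mp (orderOf_dvd_of_pow_eq_one e)
    have hA : IsPGroup 2 (zpowers a) := IsPGroup.of_card (by rw [Nat.card_zpowers, hk])
    have hX : IsPGroup 2 (zpowers (c.x 0)) := IsPGroup.of_card (n := 1) (by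
      rw [Nat.card_zpowers, pow_one]
      exact orderOf_eq_prime (by rw [sq]; exact c.x_mul_self 0) (c.x_ne_one 0))
    have hn : zpowers (c.x 0) ≤ normalizer (zpowers a : Set G) := zpowers_le.mpr (by
      refine mem_normalizer_of_map ?_
      rw [MonoidHom.map_zpowers, zpowers_le]
      show c.x 0 * a * (c.x 0)⁻¹ ∈ zpowers a
      have : c.x 0 * a * (c.x 0)⁻¹ = a⁻¹ := by
        rw [ha, mul_inv_rev, c.x_inv, c.x_inv, ← mul_assoc (c.x 0) (c.x 0), c.x_mul_self, one_mul]
      rw [this]; exact inv_mem (mem_zpowers a))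
    have hR := hX.to_sup_of_normal_right' hA hn
    have hRK : zpowers (c.x 0) ⊔ zpowers a ≤ win c.x 0 (t + 1) :=
      sup_le (zpowers_le.mpr (mem_win le_rfl (by omega))) (zpowers_le.mpr haK)
    have hS := hR.to_sup_of_normal_right' (IsPGroup.of_card (c.card_win 1 (t - 1) (by omega)))
      (hRK.trans c.top_le_normalizer)
    refine h.not_isPGroup hS (win_le fun j h1 h2 => ?_)
    rcases eq_or_lt_of_le h1 with rfl | h1'
    · exact mem_sup_left (mem_sup_left (mem_zpowers _))
    rcases eq_or_lt_of_le (show j ≤ t by omega) with rfl | h2'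
    · have e : c.x t = c.x 0 * a := by rw [ha, ← mul_assoc, c.x_mul_self, one_mul]
      rw [e]
      exact mem_sup_left (mul_mem (mem_sup_left (mem_zpowers _)) (mem_sup_right (mem_zpowers _)))
    · exact mem_sup_right (mem_win (by omega) (by omega))
  · rw [← conj_pow, ← inv_pow]
    congr 1
    rw [ha, mul_inv_rev, c.x_inv, c.x_inv, ← mul_assoc (c.x 0) (c.x 0), c.x_mul_self, one_mul]

/-- Involutions commuting with an element of order 3 lie in the middle window. -/
theorem Tri.mem_mid (h : Tri c) {w k : G} (hw : w ∈ win c.x 0 (t + 1)) (ho : orderOf w = 3)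
    (hk : k ∈ win c.x 0 (t + 1)) (hk2 : k * k = 1) (hkw : Commute k w) :
    k ∈ win c.x 1 (t - 1) := by
  by_contra hkQ
  haveI : Fact (Nat.Prime 2) := ⟨Nat.prime_two⟩
  set Q := win c.x 1 (t - 1) with hQ
  set S := zpowers k ⊔ Q with hS
  have hQK : Q ≤ win c.x 0 (t + 1) := win_mono (by omega) (by omega)
  have hZ : IsPGroup 2 (zpowers k) := IsPGroup.of_card (n := 1) (by
    rw [Nat.card_zpowers, pow_one]
    exact orderOf_eq_prime (by rw [sq]; exact hk2) fun e => hkQ (e ▸ one_mem _))
  have hSp : IsPGroup 2 S := hZ.to_sup_of_normal_right'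
    (IsPGroup.of_card (c.card_win 1 (t - 1) (by omega)))
    ((zpowers_le.mpr hk).trans c.top_le_normalizer)
  have hSK : S ≤ win c.x 0 (t + 1) := sup_le (zpowers_le.mpr hk) hQK
  obtain ⟨m, hm⟩ := IsPGroup.iff_card.mp hSp
  have hdvd := card_dvd_of_le hSK
  rw [h.card_top, hm] at hdvd
  have h2 : 2 ^ m ∣ 2 ^ t := (Nat.Coprime.pow_left m (by norm_num)).dvd_of_dvd_mul_left hdvd
  have hmt : m ≤ t := Nat.pow_dvd_pow_iff_le_right'.mp h2
  have hmt' : m = t := by
    by_contra hne
    refine hkQ ?_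
    rw [eq_of_le_of_card_ge (le_sup_right : Q ≤ S) (by
      rw [hm, hQ, c.card_win _ _ (by omega)]; exact Nat.pow_le_pow_right two_pos (by omega))]
    exact mem_sup_left (mem_zpowers k)
  rw [hmt'] at hm
  have hwn : w ∈ normalizer (S : Set G) := by
    refine mem_normalizer_of_map ?_
    rw [hS, Subgroup.map_sup, MonoidHom.map_zpowers]
    refine sup_le (le_trans (zpowers_le.mpr ?_) le_sup_left) (le_trans ?_ le_sup_right)
    · rw [MulEquiv.coe_toMonoidHom, MulAut.conj_apply, ← hkw.eq, mul_inv_cancel_right]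
      exact mem_zpowers k
    · rintro _ ⟨q, hq, rfl⟩
      exact conj_mem_of_normalized c.top_le_normalizer hw hq
  have hN : win c.x 0 (t + 1) ≤ normalizer (S : Set G) := by
    have hle : S ≤ win c.x 0 (t + 1) ⊓ normalizer (S : Set G) :=
      le_inf hSK Subgroup.le_normalizer
    have h3 : 3 ∣ Nat.card ↥(win c.x 0 (t + 1) ⊓ normalizer (S : Set G)) := by
      rw [← ho, ← Nat.card_zpowers]; exact card_dvd_of_le (le_inf (zpowers_le.mpr hw)
        (zpowers_le.mpr hwn))
    have h2' := card_dvd_of_le hle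
    rw [hm] at h2'
    have := Nat.Coprime.mul_dvd_of_dvd_of_dvd (Nat.Coprime.pow_right t (by norm_num)) h3 h2'
    rw [← eq_of_le_of_card_ge (inf_le_left : win c.x 0 (t + 1) ⊓ normalizer (S : Set G) ≤ _)
      (by rw [h.card_top]; exact Nat.le_of_dvd Nat.card_pos this)]
    exact inf_le_right
  have e0 := eq_of_le_of_card_ge (le_of_normalized (h.card_top 0) hSK hN hSp
    (win_mono le_rfl (by omega)) (c.card_win 0 t le_rfl)) (by rw [hm, c.card_win 0 t le_rfl])
  have e1 := eq_of_le_of_card_ge (le_of_normalized (h.card_top 0) hSK hN hSp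
    (win_mono (by omega) (by omega)) (c.card_win 1 t le_rfl)) (by rw [hm, c.card_win 1 t le_rfl])
  exact c.ne 0 (e0.symm.trans e1)

/-- The part fixed by an element of order 3. -/
theorem Tri.fix_le (h : Tri c) (hd : c.Dist d) (ht : 3 ≤ t) (hdt : d + 1 = t) {w k : G}
    (hw : w ∈ win c.x 0 (t + 1)) (ho : orderOf w = 3) (hinv : c.x 0 * w * (c.x 0)⁻¹ = w⁻¹)
    (hk : k ∈ win c.x 0 (t + 1)) (hk2 : k * k = 1) (hkw : Commute k w)
    (hz : ¬ Commute ⁅c.x 0, c.x d⁆ (c.x t)) :
    k ∈ win c.x 2 (t - 3) := by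
  have hkQ := h.mem_mid hw ho hk hk2 hkw
  -- anything in the middle window commuting with `x 0` and `w` commutes with `x t`
  have hcent : ∀ y ∈ win c.x 1 (t - 1), Commute y (c.x 0) → Commute y w → Commute y (c.x t) := by
    intro y hy hy0 hyw
    have hS : win c.x 0 (t + 1) ≤ centralizer ({y} : Set G) := by
      set S := win c.x 0 (t + 1) ⊓ centralizer ({y} : Set G) with hSdef
      have h0 : win c.x 0 t ≤ S := le_inf (win_mono le_rfl (by omega)) (win_le fun j h1 h2 => by
        refine mem_centralizer_singleton_iff.mpr ?_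
        rcases eq_or_lt_of_le h1 with rfl | h1'
        · exact hy0.symm.eq
        · exact (Chain.commute_of_mem_win hy fun i h3 h4 =>
            hd.commute (by omega) (by omega)).symm.eq)
      have h3 : 3 ∣ Nat.card S := by
        rw [← ho, ← Nat.card_zpowers]
        exact card_dvd_of_le (le_inf (zpowers_le.mpr hw)
          (zpowers_le.mpr (mem_centralizer_singleton_iff.mpr hyw.symm.eq)))
      have h2' := card_dvd_of_le h0
      rw [c.card_win 0 t le_rfl] at h2'
      have := Nat.Coprime.mul_dvd_of_dvd_of_dvd (Nat.Coprime.pow_right t (by norm_num)) h3 h2'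
      rw [← eq_of_le_of_card_ge (inf_le_left : S ≤ _)
        (by rw [h.card_top]; exact Nat.le_of_dvd Nat.card_pos this)]
      exact inf_le_right
    exact (mem_centralizer_singleton_iff.mp (hS (mem_win (by omega) (by omega)))).symm
  have hzQ : ⁅c.x 0, c.x d⁆ ∈ win c.x 1 (d - 1) := by
    simpa using c.comm_mem (i := 0) hd.pos (by omega)
  have hz0 : Commute ⁅c.x 0, c.x d⁆ (c.x 0) :=
    Chain.commute_of_mem_win hzQ fun j h1 h2 => hd.commute (by omega) (by omega)
  obtain ⟨m, rfl⟩ : ∃ m, t = m + 3 := ⟨t - 3, by omega⟩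
  obtain rfl : d = m + 2 := by omega
  rw [show m + 3 - 1 = m + 2 by omega] at hkQ
  -- split off the top generator
  have hsplit : k ∈ win c.x 1 (m + 1) ∨ k * c.x (m + 2 : ℕ) ∈ win c.x 1 (m + 1) := by
    by_cases hh : k ∈ win c.x 1 (m + 1)
    · exact Or.inl hh
    refine Or.inr ?_
    have hS : win c.x 1 (m + 1) ≤ win c.x 1 (m + 2) := win_mono le_rfl (by omega)
    have hidx : ((win c.x 1 (m + 1)).subgroupOf (win c.x 1 (m + 2))).index = 2 := by
      have h := card_mul_index ((win c.x 1 (m + 1)).subgroupOf (win c.x 1 (m + 2)))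
      rw [Nat.card_congr (subgroupOfEquivOfLe hS).toEquiv, c.card_win _ _ (by omega),
        c.card_win _ _ (by omega), pow_succ 2 (m + 1)] at h
      exact Nat.eq_of_mul_eq_mul_left (Nat.two_pow_pos _) h
    have hx : c.x (m + 2 : ℕ) ∉ win c.x 1 (m + 1) := fun hx => by
      have hle : win c.x 1 (m + 2) ≤ win c.x 1 (m + 1) := win_le fun j h1 h2 => by
        rcases eq_or_lt_of_le (show j ≤ (m + 2 : ℕ) by omega) with rfl | h'
        · exact hx
        · exact mem_win h1 (by omega)
      exact hh (hle hkQ)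
    have := mul_mem_iff_of_index_two hidx (a := (⟨k, hkQ⟩ : win c.x 1 (m + 2)))
      (b := ⟨c.x (m + 2 : ℕ), mem_win (by omega) (by omega)⟩)
    simp only [mem_subgroupOf, Subgroup.coe_mul] at this
    exact this.mpr ⟨fun e => absurd e hh, fun e => absurd e hx⟩
  have hc0 : ∀ y ∈ win c.x 1 (m + 1), Commute y (c.x 0) := fun y hy =>
    Chain.commute_of_mem_win hy fun j h1 h2 => hd.commute (by omega) (by omega)
  rcases hsplit with hh | hh
  · have hkt := hcent k (by rw [show m + 3 - 1 = m + 2 by omega]; exact hkQ) (hc0 k hh) hkw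
    rw [show m + 3 - 3 = m by omega]
    rcases Chain.mem_win_or (i := 1) (n := m) (by omega) hh with h' | h'
    · exact h'
    exfalso
    have h1 : Commute (c.x 1 * k) (c.x (m + 3 : ℕ)) := Chain.commute_of_mem_win h' fun j h1 h2 =>
      hd.commute (by omega) (by omega)
    have := h1.mul_left hkt.inv_left
    rw [mul_inv_cancel_right] at this
    exact hd.not_commute 1 (by
      rw [show (1 : ℤ) + ((m + 2 : ℕ) : ℤ) = ((m + 3 : ℕ) : ℤ) by omega]; exact this)
  · exfalso
    refine hz (hcent _ (win_mono le_rfl (by omega) hzQ) hz0 ?_)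
    set u := k * c.x (m + 2 : ℕ) with hu
    have hk' : k = u * c.x (m + 2 : ℕ) := by rw [hu, mul_assoc, c.x_mul_self, mul_one]
    have hck : c.x 0 * k * (c.x 0)⁻¹ * k⁻¹ = u * ⁅c.x 0, c.x (m + 2 : ℕ)⁆ * u⁻¹ := by
      rw [hk', commutatorElement_def]
      calc _ = (c.x 0 * u) * c.x (m + 2 : ℕ) * (c.x 0)⁻¹ * (c.x (m + 2 : ℕ))⁻¹ * u⁻¹ := by group
        _ = (u * c.x 0) * c.x (m + 2 : ℕ) * (c.x 0)⁻¹ * (c.x (m + 2 : ℕ))⁻¹ * u⁻¹ := by
            rw [(hc0 u hh).eq]
        _ = _ := by group
    have huz : Commute u ⁅c.x 0, c.x (m + 2 : ℕ)⁆ :=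
      Chain.commute_of_mem_win hh fun j h1 h2 =>
        (Chain.commute_of_mem_win hzQ fun i h3 h4 => hd.commute (by omega) (by omega)).symm
    rw [huz.eq, mul_inv_cancel_right] at hck
    rw [← hck]
    have h1 : Commute (c.x 0 * k * (c.x 0)⁻¹) w := by
      have := hkw.inv_right.map (MulAut.conj (c.x 0)).toMonoidHom
      rw [MulEquiv.coe_toMonoidHom, MulAut.conj_apply, MulAut.conj_apply] at this
      rw [← conj_inv, hinv, inv_inv] at this
      exact this
    exact h1.mul_left hkw.inv_left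

theorem centralizer_card_three {H : Type*} [Group H] [Finite H] {y : H} (hy : orderOf y = 3)
    (hH : Nat.card H = 24) (h : ∀ k : H, k * k = 1 → Commute k y → k = 1) :
    Nat.card (centralizer ({y} : Set H)) = 3 := by
  have h3 : 3 ∣ Nat.card (centralizer ({y} : Set H)) := by
    rw [← hy, ← Nat.card_zpowers]
    exact card_dvd_of_le (zpowers_le.mpr (mem_centralizer_singleton_iff.mpr rfl))
  have hdvd := Subgroup.card_subgroup_dvd_card (centralizer ({y} : Set H))
  rw [hH] at hdvd
  by_contra hne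
  obtain ⟨q, hq⟩ := h3
  rw [hq] at hdvd hne
  have h2 : 2 ∣ Nat.card (centralizer ({y} : Set H)) := by
    rw [hq]
    have h8 : q ∣ 2 ^ 3 := by
      have : 3 * q ∣ 3 * 8 := hdvd
      exact Nat.dvd_of_mul_dvd_mul_left (by norm_num) this
    obtain ⟨i, -, rfl⟩ := (Nat.dvd_prime_pow Nat.prime_two).mp h8
    cases i with
    | zero => simp at hne
    | succ i => exact dvd_mul_of_dvd_right (dvd_pow_self 2 (by omega)) _
  haveI : Fact (Nat.Prime 2) := ⟨Nat.prime_two⟩
  obtain ⟨⟨k, hk⟩, hko⟩ := exists_prime_orderOf_dvd_card' 2 h2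
  rw [Subgroup.orderOf_mk] at hko
  have := h k (by rw [← sq, ← hko, pow_orderOf_eq_one]) (mem_centralizer_singleton_iff.mp hk)
  rw [this, orderOf_one] at hko
  omega

theorem eq_one_or_eq {i : ℤ} {y : G} (hy : y ∈ win c.x i 1) : y = 1 ∨ y = c.x i := by
  have hlez : win c.x i 1 ≤ zpowers (c.x i) := win_le fun j h1 h2 => by
    rw [show j = i by omega]; exact mem_zpowers _
  obtain ⟨k, rfl⟩ := mem_zpowers_iff.mp (hlez hy)
  rcases Int.even_or_odd' k with ⟨m, rfl | rfl⟩
  · left; rw [zpow_mul, zpow_two, c.x_mul_self, one_zpow]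
  · right; rw [zpow_add, zpow_mul, zpow_two, c.x_mul_self, one_zpow, one_mul, zpow_one]

theorem shape_one {c : Chain G 1} (h : Tri c) :
    Nonempty (win c.x 0 2 ≃* Equiv.Perm (Fin 3)) := by
  classical
  set K := win c.x 0 2 with hK
  set S := (win c.x 0 1).subgroupOf K with hS
  have hle : win c.x 0 1 ≤ K := win_mono le_rfl (by omega)
  have hKc : Nat.card K = 6 := by rw [hK, h.card_top 0]; norm_num
  have hSc : Nat.card S = 2 := by
    rw [hS, Nat.card_congr (subgroupOfEquivOfLe hle).toEquiv, c.card_win 0 1 le_rfl, pow_one]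
  have hidx : Nat.card (K ⧸ S) = 3 := by
    have := card_mul_index S
    rw [hKc, hSc, Subgroup.index_eq_card] at this
    omega
  haveI : Fintype (K ⧸ S) := Fintype.ofFinite _
  have hcore : S.normalCore = ⊥ := by
    rw [eq_bot_iff]
    intro y hy
    haveI := normalCore_normal S
    set N := S.normalCore.map K.subtype with hN
    have hNle : N ≤ win c.x 0 1 := by
      rintro _ ⟨z, hz, rfl⟩; exact mem_subgroupOf.mp (normalCore_le S hz)
    have hNn : K ≤ normalizer (N : Set G) := by
      have := le_normalizer_map (H := S.normalCore) K.subtype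
      rw [normalizer_eq_top_iff.mpr inferInstance, ← MonoidHom.range_eq_map, range_subtype] at this
      exact this
    have h1 := le_of_normalized (h.card_top 0) (hNle.trans hle) hNn
      ((IsPGroup.of_card (c.card_win 0 1 le_rfl)).to_le hNle) (win_mono (by omega) (by omega))
      (c.card_win 1 1 le_rfl)
    have hy' : (y : G) ∈ N := mem_map_of_mem _ hy
    rcases eq_one_or_eq (hNle hy') with e | e
    · exact mem_bot.mpr (Subtype.ext e)
    rcases eq_one_or_eq (h1 hy') with e' | e'
    · exact absurd (e.symm.trans e') (c.x_ne_one 0)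
    refine absurd (le_antisymm ?_ ?_) (c.ne 0) <;> refine win_le fun j h1 h2 => ?_
    · rw [show j = 0 by omega, ← e, e']; exact mem_win (by omega) (by omega)
    · rw [show j = 1 by omega, ← e', e]; exact mem_win (by omega) (by omega)
  haveI : FaithfulSMul K (K ⧸ S) := ⟨fun {a b} hab => by
    have : Function.Injective (MulAction.toPermHom K (K ⧸ S)) := by
      rw [← MonoidHom.ker_eq_bot_iff, ← normalCore_eq_ker, hcore]
    exact this (Equiv.ext hab)⟩
  exact Lib.LinGroup.nonempty_mulEquiv_perm hidx (by rw [hKc]; rfl)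

theorem shape_two {c : Chain G 2} (h : Tri c) (hd : c.Dist 2) :
    Nonempty (win c.x 0 3 ≃* DihedralGroup 6) := by
  obtain ⟨w, hw, ho, hinv⟩ := h.exists_omega
  have hc : ∀ j : ℤ, 0 ≤ j → j < 3 → Commute (c.x 1) (c.x j) := fun j h1 h2 =>
    hd.commute (by push_cast; omega) (by push_cast; omega)
  have h1w : Commute (c.x 1) w := (Chain.commute_of_mem_win hw fun j h1 h2 =>
    (hc j h1 (by omega)).symm).symm
  set K := win c.x 0 3 with hK
  set r : K := ⟨c.x 1 * w, mul_mem (mem_win (by omega) (by omega)) hw⟩ with hr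
  set s : K := ⟨c.x 0, mem_win le_rfl (by omega)⟩ with hs
  have h1o : orderOf (c.x 1) = 2 := by
    haveI : Fact (Nat.Prime 2) := ⟨Nat.prime_two⟩
    exact orderOf_eq_prime (by rw [sq]; exact c.x_mul_self 1) (c.x_ne_one 1)
  have hro : orderOf r = 6 := by
    rw [← Subgroup.orderOf_coe, hr]
    show orderOf (c.x 1 * w) = 6
    rw [h1w.orderOf_mul_eq_mul_orderOf_of_coprime (by rw [h1o, ho]; norm_num), h1o, ho]
  have hsr : s * r * s = r⁻¹ := Subtype.ext (by
    show c.x 0 * (c.x 1 * w) * c.x 0 = (c.x 1 * w)⁻¹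
    rw [mul_inv_rev, ← hinv, c.x_inv, c.x_inv, ← mul_assoc, ← (hc 0 le_rfl (by omega)).eq,
      mul_assoc _ w, mul_assoc (c.x 1)]
    have e : Commute (c.x 1) (c.x 0 * w * c.x 0) :=
      ((hc 0 le_rfl (by omega)).mul_right h1w).mul_right (hc 0 le_rfl (by omega))
    rw [← mul_assoc (c.x 0), e.eq])
  refine Lib.Classical.nonempty_dihedralGroup_mulEquiv 6 r s hro (Subtype.ext (c.x_mul_self 0)) hsr
    (fun hmem => ?_) (by rw [hK, h.card_top 0]; norm_num)
  obtain ⟨k, hk⟩ := mem_zpowers_iff.mp hmem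
  have e : (c.x 1 * w) ^ k = c.x 0 := congrArg Subtype.val hk
  have hcw : Commute (c.x 0) w :=
    e ▸ ((h1w.mul_left (Commute.refl w)).zpow_left k)
  rw [hcw.eq, mul_inv_cancel_right] at hinv
  have h2 : w ^ 2 = 1 := by rw [sq]; conv_lhs => arg 1; rw [hinv]
                            exact inv_mul_cancel w
  have := orderOf_dvd_of_pow_eq_one h2
  rw [ho] at this
  omega

theorem shape_three {c : Chain G 3} (h : Tri c) (hd : c.Dist 2) :
    Nonempty (win c.x 0 4 ≃* Equiv.Perm (Fin 4)) := by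
  obtain ⟨w, hw, ho, hinv⟩ := h.exists_omega
  have hz : ⁅c.x 0, c.x 2⁆ = c.x 1 := (eq_one_or_eq (c := c) (by
    simpa using c.comm_mem (i := 0) (m := 2) (by omega) le_rfl)).resolve_left (c.comm_ne_one hd)
  have hz' : ¬ Commute ⁅c.x 0, c.x (2 : ℕ)⁆ (c.x (3 : ℕ)) := by
    push_cast
    rw [hz]
    exact fun e => hd.not_commute 1 (by push_cast; norm_num; exact e)
  have h24 : Nat.card (win c.x 0 4) = 24 := by rw [h.card_top 0]; norm_num
  have how : orderOf (⟨w, hw⟩ : win c.x 0 4) = 3 := by rw [Subgroup.orderOf_mk]; exact ho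
  refine Lib.SL2.iso_perm_four how (centralizer_card_three how h24 fun k hk2 hkc => ?_) h24
  have := h.fix_le hd le_rfl rfl hw ho hinv k.2 (congrArg Subtype.val hk2)
    (congrArg Subtype.val hkc.eq) hz'
  rw [Nat.sub_self, win_zero, mem_bot] at this
  exact Subtype.ext this

theorem comm_four {c : Chain G 4} (h : Tri c) (hd : c.Dist 3) :
    ⁅c.x 0, c.x 3⁆ = c.x 1 * c.x 2 := by
  set z := ⁅c.x 0, c.x 3⁆ with hzdef
  have hz : z ∈ win c.x 1 2 := by simpa using c.comm_mem (i := 0) (m := 3) (by omega) le_rfl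
  have hz4 : ⁅c.x 1, c.x 4⁆ = c.φ z := by
    rw [hzdef]
    show _ = (c.φ.toMonoidHom) _
    rw [map_commutatorElement, MulEquiv.coe_toMonoidHom, c.shift, c.shift]
    norm_num
  have hcases : z = c.x 1 ∨ z = c.x 2 ∨ z = c.x 1 * c.x 2 := by
    rcases Chain.mem_win_or (i := 1) (n := 1) (by omega) hz with h' | h'
    · exact Or.inr (Or.inl ((eq_one_or_eq (c := c) (i := 1 + 1) h').resolve_left (c.comm_ne_one hd)))
    · rcases eq_one_or_eq (c := c) (i := 1 + 1) h' with e | e
      · left; rw [← mul_one (c.x 1), ← e, ← mul_assoc, c.x_mul_self, one_mul]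
      · right; right; rw [show (2 : ℤ) = 1 + 1 by norm_num, ← e, ← mul_assoc, c.x_mul_self, one_mul]
  -- exclude the degenerate cases: one of the two Sylow subgroups would act trivially mod `x 2`
  rcases hcases with e | e | e
  rotate_right
  · exact e
  all_goals exfalso
  all_goals
    set Q := win c.x 1 3 with hQ
    set Z := zpowers (c.x 2) with hZ
    have hcom : ∀ i j : ℤ, i - j < 3 → j - i < 3 → Commute (c.x i) (c.x j) := fun i j h1 h2 =>
      hd.commute (by push_cast; omega) (by push_cast; omega)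
    have hQQ : ∀ a ∈ Q, ∀ b ∈ Q, Commute a b := fun a ha b hb =>
      Chain.commute_of_mem_win ha fun j h1 h2 =>
        (Chain.commute_of_mem_win hb fun i h3 h4 => hcom i j (by omega) (by omega)).symm
    -- elements of the top window acting trivially on `Q` modulo `Z`
    have hKQ : win c.x 0 5 ≤ normalizer (Q : Set G) := c.top_le_normalizer
    have hKZ : ∀ a ∈ win c.x 0 5, ∀ b ∈ Z, Commute a b := fun a ha b hb => by
      obtain ⟨k, rfl⟩ := mem_zpowers_iff.mp hb
      exact (Chain.commute_of_mem_win ha fun j h1 h2 => hcom j 2 (by omega) (by omega)).zpow_right k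
    have hZQ : Z ≤ Q := zpowers_le.mpr (mem_win (by omega) (by omega))
    let N : Subgroup G :=
      { carrier := {a | a ∈ win c.x 0 5 ∧ ∀ q ∈ Q, ⁅a, q⁆ ∈ Z}
        one_mem' := ⟨one_mem _, fun q _ => by rw [commutatorElement_one_left]; exact one_mem _⟩
        mul_mem' := fun {a b} ha hb => ⟨mul_mem ha.1 hb.1, fun q hq => by
          have e : ⁅a * b, q⁆ = a * ⁅b, q⁆ * a⁻¹ * ⁅a, q⁆ := by
            simp only [commutatorElement_def]; group
          rw [e, (hKZ a ha.1 _ (hb.2 q hq)).eq, mul_inv_cancel_right]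
          exact mul_mem (hb.2 q hq) (ha.2 q hq)⟩
        inv_mem' := fun {a} ha => ⟨inv_mem ha.1, fun q hq => by
          have e : ⁅a⁻¹, q⁆ = a⁻¹ * ⁅a, q⁆⁻¹ * a := by simp only [commutatorElement_def]; group
          rw [e, mul_assoc, ← (hKZ a ha.1 _ (inv_mem (ha.2 q hq))).eq, inv_mul_cancel_left]
          exact inv_mem (ha.2 q hq)⟩ }
    have hQN : Q ≤ N := fun a ha => ⟨win_mono (by omega) (by omega) ha, fun q hq => by
      rw [commutatorElement_eq_one_iff_commute.mpr (hQQ a ha q hq)]; exact one_mem _⟩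
    have hmemN : ∀ a ∈ win c.x 0 5, (∀ j : ℤ, 1 ≤ j → j < 4 → ⁅a, c.x j⁆ ∈ Z) → a ∈ N := by
      intro a ha hj
      refine ⟨ha, fun q hq => ?_⟩
      refine closure_induction (p := fun q _ => ⁅a, q⁆ ∈ Z) (fun q hq => ?_)
        (by rw [commutatorElement_one_right]; exact one_mem _) (fun x y hx hy ihx ihy => ?_)
        (fun x hx ihx => ?_) hq
      · obtain ⟨j, hj', rfl⟩ := hq
        exact hj j hj'.1 hj'.2
      · have e : ⁅a, x * y⁆ = ⁅a, x⁆ * (x * ⁅a, y⁆ * x⁻¹) := by
          simp only [commutatorElement_def]; group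
        rw [e, (hKZ x (win_mono (by omega) (by omega) hx) _ ihy).eq, mul_inv_cancel_right]
        exact mul_mem ihx ihy
      · have e : ⁅a, x⁻¹⁆ = x⁻¹ * ⁅a, x⁆⁻¹ * x := by simp only [commutatorElement_def]; group
        rw [e, mul_assoc, ← (hKZ x (win_mono (by omega) (by omega) hx) _ (inv_mem ihx)).eq,
          inv_mul_cancel_left]
        exact inv_mem ihx
    have hNK : N ≤ win c.x 0 5 := fun a ha => ha.1
    have hNn : win c.x 0 5 ≤ normalizer (N : Set G) := by
      intro a ha
      refine mem_normalizer_of_map ?_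
      rintro _ ⟨b, hb, rfl⟩
      refine ⟨?_, fun q hq => ?_⟩
      · exact mul_mem (mul_mem ha hb.1) (inv_mem ha)
      · have hq' : a⁻¹ * q * a⁻¹⁻¹ ∈ Q := conj_mem_of_normalized hKQ (inv_mem ha) hq
        rw [inv_inv] at hq'
        have e : ⁅(MulAut.conj a).toMonoidHom b, q⁆ = a * ⁅b, a⁻¹ * q * a⁆ * a⁻¹ := by
          rw [MulEquiv.coe_toMonoidHom, MulAut.conj_apply]
          simp only [commutatorElement_def]; group
        rw [e, (hKZ a ha _ (hb.2 _ hq')).eq, mul_inv_cancel_right]
        exact hb.2 _ hq'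
    have hnot : ∀ j : ℤ, j = 1 ∨ j = 3 → c.x j ∉ Z := by
      intro j hj hZj
      have h1 : c.x j ∈ win c.x 2 1 := (zpowers_le.mpr (mem_win le_rfl (by omega))) hZj
      rcases hj with rfl | rfl
      · exact c.x_ne_one 1 (c.eq_one_of_mem_win (n := 1) (a := 1) (m := 1) (by omega)
          (mem_win le_rfl (by omega)) h1)
      · exact c.x_ne_one 3 (c.eq_one_of_mem_win (n := 1) (a := 2) (m := 1) (by omega)
          h1 (mem_win le_rfl (by omega)))
    have hφ : ∀ i, c.φ (c.x i) = c.x (i + 1) := c.shift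
  · -- `z = x 1`: `x 4` acts trivially, so does the other Sylow subgroup
    have h4 : c.x 4 ∈ N := hmemN _ (mem_win (by omega) (by omega)) fun j h1 h2 => by
      rcases (show j = 1 ∨ j = 2 ∨ j = 3 by omega) with rfl | rfl | rfl
      · rw [← commutatorElement_inv, hz4, e, hφ]
        exact inv_mem (mem_zpowers _)
      all_goals
        rw [commutatorElement_eq_one_iff_commute.mpr (hcom 4 _ (by omega) (by omega))]
        exact one_mem _
    have hP : win c.x 1 4 ≤ N := win_le fun j h1 h2 => by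
      rcases eq_or_lt_of_le (show j ≤ 4 by omega) with rfl | h'
      · exact h4
      · exact hQN (mem_win h1 (by omega))
    have h0 : c.x 0 ∉ N := fun hh => hnot 1 (Or.inl rfl) (by
      have := hh.2 (c.x 3) (mem_win (by omega) (by omega))
      rwa [← hzdef, e] at this)
    refine h0 ?_
    by_contra h0'
    have hsame : N = win c.x 1 4 := by
      refine (eq_of_le_of_card_ge hP ?_).symm
      have hdvd := card_dvd_of_le hNK
      have h16 := card_dvd_of_le hP
      rw [h.card_top 0] at hdvd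
      rw [c.card_win _ _ le_rfl] at h16
      obtain ⟨q, hq⟩ := h16
      rw [hq, mul_comm (2 ^ 4) q] at hdvd
      rcases (Nat.dvd_prime Nat.prime_three).mp
        ((Nat.mul_dvd_mul_iff_right (by norm_num)).mp hdvd) with rfl | rfl
      · rw [hq, mul_one, c.card_win _ _ le_rfl]
      · exfalso
        have := eq_of_le_of_card_ge hNK (by rw [h.card_top 0, hq]; norm_num)
        exact h0' (this ▸ mem_win le_rfl (by omega))
    have hle := le_of_normalized (h.card_top 0) (hsame ▸ hNK) (hsame ▸ hNn)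
      (IsPGroup.of_card (c.card_win 1 4 le_rfl)) (win_mono le_rfl (by omega))
      (c.card_win 0 4 le_rfl)
    exact c.ne 0 (eq_of_le_of_card_ge hle
      (by rw [c.card_win 0 4 le_rfl, c.card_win _ 4 le_rfl])).symm
  · -- `z = x 2`: `x 0` acts trivially
    have h0 : c.x 0 ∈ N := hmemN _ (mem_win le_rfl (by omega)) fun j h1 h2 => by
      rcases (show j = 3 ∨ j = 2 ∨ j = 1 by omega) with rfl | rfl | rfl
      · rw [← hzdef, e]; exact mem_zpowers _
      all_goals
        rw [commutatorElement_eq_one_iff_commute.mpr (hcom 0 _ (by omega) (by omega))]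
        exact one_mem _
    have hP : win c.x 0 4 ≤ N := win_le fun j h1 h2 => by
      rcases eq_or_lt_of_le h1 with rfl | h'
      · exact h0
      · exact hQN (mem_win (by omega) (by omega))
    have h4 : c.x 4 ∉ N := fun hh => hnot 3 (Or.inr rfl) (by
      have := hh.2 (c.x 1) (mem_win le_rfl (by omega))
      rw [← commutatorElement_inv, hz4, e, hφ] at this
      simpa using inv_mem this)
    have hsame : N = win c.x 0 4 := by
      refine (eq_of_le_of_card_ge hP ?_).symm
      have hdvd := card_dvd_of_le hNK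
      have h16 := card_dvd_of_le hP
      rw [h.card_top 0] at hdvd
      rw [c.card_win _ _ le_rfl] at h16
      obtain ⟨q, hq⟩ := h16
      rw [hq, mul_comm (2 ^ 4) q] at hdvd
      rcases (Nat.dvd_prime Nat.prime_three).mp
        ((Nat.mul_dvd_mul_iff_right (by norm_num)).mp hdvd) with rfl | rfl
      · rw [hq, mul_one, c.card_win _ _ le_rfl]
      · exfalso
        have := eq_of_le_of_card_ge hNK (by rw [h.card_top 0, hq]; norm_num)
        exact h4 (this ▸ mem_win (by omega) (by omega))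
    have hle := le_of_normalized (h.card_top 0) (hsame ▸ hNK) (hsame ▸ hNn)
      (IsPGroup.of_card (c.card_win 0 4 le_rfl)) (win_mono (by omega) (by omega))
      (c.card_win 1 4 le_rfl)
    exact c.ne 0 (eq_of_le_of_card_ge hle
      (by rw [c.card_win 0 4 le_rfl, c.card_win _ 4 le_rfl]))

theorem shape_four {c : Chain G 4} (h : Tri c) (hd : c.Dist 3) :
    Nonempty (win c.x 0 5 ≃* Equiv.Perm (Fin 4) × Multiplicative (ZMod 2)) := by
  classical
  obtain ⟨w, hw, ho, hinv⟩ := h.exists_omega
  set K := win c.x 0 5 with hK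
  have hz := comm_four h hd
  have hcom : ∀ i j : ℤ, i - j < 3 → j - i < 3 → Commute (c.x i) (c.x j) := fun i j h1 h2 =>
    hd.commute (by push_cast; omega) (by push_cast; omega)
  have hz' : ¬ Commute ⁅c.x 0, c.x (3 : ℕ)⁆ (c.x (4 : ℕ)) := by
    push_cast
    rw [hz]
    intro e
    have := e.mul_left (hcom 2 4 (by omega) (by omega)).inv_left
    rw [mul_inv_cancel_right] at this
    exact hd.not_commute 1 (by push_cast; norm_num; exact this)
  -- a complement of `x 2` in a Sylow subgroup
  set L := closure ({c.x 0, c.x 3} : Set G) with hL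
  have h0 : orderOf (c.x 0) = 2 := by
    haveI : Fact (Nat.Prime 2) := ⟨Nat.prime_two⟩
    exact orderOf_eq_prime (by rw [sq]; exact c.x_mul_self 0) (c.x_ne_one 0)
  have h3 : orderOf (c.x 3) = 2 := by
    haveI : Fact (Nat.Prime 2) := ⟨Nat.prime_two⟩
    exact orderOf_eq_prime (by rw [sq]; exact c.x_mul_self 3) (c.x_ne_one 3)
  have h03 : c.x 0 ≠ c.x 3 := fun e => hd.not_comm (by push_cast; rw [e])
  have h4o : orderOf (c.x 0 * c.x 3) = 4 := by
    haveI : Fact (Nat.Prime 2) := ⟨Nat.prime_two⟩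
    have hsq : (c.x 0 * c.x 3) ^ 2 = c.x 1 * c.x 2 := by
      rw [← hz, commutatorElement_def, c.x_inv, c.x_inv, sq]; simp only [mul_assoc]
    refine orderOf_eq_prime_pow (p := 2) (n := 1) ?_ ?_
    · rw [pow_one, hsq, ← hz]; exact c.comm_ne_one hd
    · rw [show (2 : ℕ) ^ (1 + 1) = 2 * 2 by norm_num, pow_mul, hsq, sq,
        mul_assoc, ← mul_assoc (c.x 2), (hcom 2 1 (by omega) (by omega)).eq, mul_assoc (c.x 1),
        c.x_mul_self, mul_one, c.x_mul_self]
  obtain ⟨eL⟩ := Cfsg.Agent.S0206.result (c.x 0) (c.x 3) h0 h3 h03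
  have hL8 : Nat.card L = 8 := by
    rw [Nat.card_congr eL.toEquiv, DihedralGroup.nat_card, h4o]
  have hLP : L ≤ win c.x 0 4 := (closure_le _).mpr (by
    rintro y (rfl | rfl)
    · exact mem_win le_rfl (by omega)
    · exact mem_win (by omega) (by omega))
  have hx2 : c.x 2 ∉ L := fun hx => by
    have h1 : c.x 1 ∈ L := by
      have : ⁅c.x 0, c.x 3⁆ ∈ L := by
        rw [commutatorElement_def]
        exact mul_mem (mul_mem (mul_mem (subset_closure (by simp)) (subset_closure (by simp)))
          (inv_mem (subset_closure (by simp)))) (inv_mem (subset_closure (by simp)))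
      rw [hz] at this
      simpa [mul_assoc, c.x_mul_self] using mul_mem this hx
    have hle : win c.x 0 4 ≤ L := win_le fun j h1' h2' => by
      rcases (show j = 0 ∨ j = 1 ∨ j = 2 ∨ j = 3 by omega) with rfl | rfl | rfl | rfl
      · exact subset_closure (by simp)
      · exact h1
      · exact hx
      · exact subset_closure (by simp)
    have := card_le_of_le hle
    rw [hL8, c.card_win 0 4 le_rfl] at this
    norm_num at this
  set L' := L.subgroupOf (win c.x 0 4) with hL'
  have hLidx : L'.index = 2 := by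
    have h := card_mul_index L'
    rw [hL', Nat.card_congr (subgroupOfEquivOfLe hLP).toEquiv, hL8, c.card_win 0 4 le_rfl] at h
    rw [hL']
    omega
  haveI : L'.Normal := normal_of_index_eq_two hLidx
  haveI : Fact (Nat.Prime 2) := ⟨Nat.prime_two⟩
  have hq2 : Nat.card (win c.x 0 4 ⧸ L') = 2 := by rw [← Subgroup.index_eq_card, hLidx]
  have hM2 : Nat.card (Multiplicative (ZMod 2)) = 2 := by
    rw [Nat.card_congr Multiplicative.toAdd, Nat.card_zmod]
  haveI : IsCyclic (win c.x 0 4 ⧸ L') := isCyclic_of_prime_card hq2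
  let eq2 : (win c.x 0 4 ⧸ L') ≃* Multiplicative (ZMod 2) :=
    mulEquivOfCyclicCardEq (hq2.trans hM2.symm)
  have hPK : win c.x 0 4 ≤ K := win_mono le_rfl (by omega)
  let P' := (win c.x 0 4).subgroupOf K
  let ϕ : P' →* Multiplicative (ZMod 2) := (eq2.toMonoidHom.comp (QuotientGroup.mk' L')).comp
    (subgroupOfEquivOfLe hPK).toMonoidHom
  have hidx3 : P'.index = 3 := by
    have h' := card_mul_index P'
    rw [Nat.card_congr (subgroupOfEquivOfLe hPK).toEquiv, c.card_win 0 4 le_rfl,
      show Nat.card K = 3 * 2 ^ 4 from h.card_top 0] at h'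
    omega
  let x2 : K := ⟨c.x 2, mem_win (by omega) (by omega)⟩
  have hx2c : ∀ y : K, Commute x2 y := fun y => Subtype.ext
    (Chain.commute_of_mem_win y.2 fun j h1 h2 => hcom j 2 (by omega) (by omega)).symm.eq
  set T : K →* Multiplicative (ZMod 2) := MonoidHom.transfer ϕ with hT
  have hTx : T x2 ≠ 1 := by
    rw [hT, MonoidHom.transfer_eq_pow ϕ x2 fun k g _ => by
      rw [mul_assoc, ((hx2c g).pow_left k).eq, inv_mul_cancel_left]]
    intro e
    have e1 : (QuotientGroup.mk' L') (subgroupOfEquivOfLe hPK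
        ⟨x2 ^ P'.index, MonoidHom.transfer_eq_pow_aux x2 fun k g _ => by
          rw [mul_assoc, ((hx2c g).pow_left k).eq, inv_mul_cancel_left]⟩) = 1 :=
      eq2.injective (e.trans (map_one eq2).symm)
    rw [QuotientGroup.mk'_apply, QuotientGroup.eq_one_iff, hL', mem_subgroupOf] at e1
    have e2 : (c.x 2) ^ P'.index ∈ L := e1
    rw [hidx3, show (3 : ℕ) = 2 + 1 from rfl, pow_succ, sq, c.x_mul_self, one_mul] at e2
    exact hx2 e2
  have hMtwo := ztwo_cases
  have hsurj : Function.Surjective T := fun a => by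
    rcases hMtwo a with rfl | ha
    · exact ⟨1, map_one T⟩
    · exact ⟨x2, ha _ hTx⟩
  have hKc : Nat.card K = 48 := by rw [hK, h.card_top 0]; norm_num
  have hker : Nat.card T.ker = 24 := by
    have h1 := card_mul_index T.ker
    rw [index_ker, T.range_eq_top.mpr hsurj, card_top, hM2, hKc] at h1
    omega
  let w' : K := ⟨w, hw⟩
  have hwo : orderOf w' = 3 := by rw [Subgroup.orderOf_mk]; exact ho
  have hwker : T w' = 1 := by
    have h1 : T w' ^ 3 = 1 := by rw [← map_pow, ← hwo, pow_orderOf_eq_one, map_one]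
    exact ztwo_cube _ h1
  have how : orderOf (⟨w', hwker⟩ : T.ker) = 3 := by
    rw [← Subgroup.orderOf_coe]; exact hwo
  obtain ⟨iK⟩ := Lib.SL2.iso_perm_four how (centralizer_card_three how hker fun k hk2 hkc => by
    have hk := h.fix_le hd (by omega) rfl hw ho hinv (k : K).2
      (congrArg (fun y : T.ker => ((y : K) : G)) hk2)
      (congrArg (fun y : T.ker => ((y : K) : G)) hkc.eq) hz'
    rcases eq_one_or_eq (c := c) hk with e | e
    · exact Subtype.ext (Subtype.ext e)
    · exfalso
      refine hTx ?_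
      have e' : (k : K) = x2 := Subtype.ext e
      rw [← e']
      exact k.2) hker
  have hx2sq : x2 ^ 2 = 1 := Subtype.ext (by
    show c.x 2 ^ 2 = 1
    rw [sq]; exact c.x_mul_self 2)
  have hx2o : Nat.card (zpowers x2) = 2 := by
    rw [Nat.card_zpowers]
    exact orderOf_eq_prime hx2sq fun e => c.x_ne_one 2 (congrArg Subtype.val e)
  have hcomm : ∀ (a : T.ker) (b : zpowers x2), Commute (T.ker.subtype a) ((zpowers x2).subtype b) := by
    rintro a ⟨b, k, rfl⟩
    exact ((hx2c a).symm).zpow_right k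
  let χ := MonoidHom.noncommCoprod T.ker.subtype (zpowers x2).subtype hcomm
  have hχ : Function.Injective χ := by
    rw [injective_iff_map_eq_one]
    rintro ⟨a, b, hb⟩ e
    have e1 : (a : K) * b = 1 := e
    obtain ⟨k, rfl⟩ := mem_zpowers_iff.mp hb
    have h2 : T (x2 ^ k) = 1 := by
      have := congrArg T e1
      rwa [map_mul, MonoidHom.mem_ker.mp a.2, one_mul, map_one] at this
    rcases Int.even_or_odd' k with ⟨m, rfl | rfl⟩
    · have hz1 : x2 ^ (2 * m) = 1 := by
        rw [zpow_mul, zpow_two, ← sq, hx2sq, one_zpow]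
      rw [hz1, mul_one] at e1
      exact Prod.ext (Subtype.ext e1) (Subtype.ext hz1)
    · rw [zpow_add, zpow_mul, zpow_two, ← sq, hx2sq, one_zpow, one_mul, zpow_one] at h2
      exact absurd h2 hTx
  haveI : IsCyclic (zpowers x2) := isCyclic_of_prime_card hx2o
  let iZ : zpowers x2 ≃* Multiplicative (ZMod 2) := mulEquivOfCyclicCardEq (hx2o.trans hM2.symm)
  have hbij : Function.Bijective χ := (Nat.bijective_iff_injective_and_card χ).2
    ⟨hχ, by rw [Nat.card_prod, hker, hx2o, hKc]⟩
  exact ⟨(MulEquiv.ofBijective χ hbij).symm.trans (MulEquiv.prodCongr iK iZ)⟩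

/-- The isomorphism type of the top window of a chain. -/
theorem Tri.iso (h : Tri c) :
    Nonempty (win c.x 0 (t + 1) ≃* Equiv.Perm (Fin 3)) ∨
      Nonempty (win c.x 0 (t + 1) ≃* DihedralGroup 6) ∨
      Nonempty (win c.x 0 (t + 1) ≃* Equiv.Perm (Fin 4)) ∨
      Nonempty (win c.x 0 (t + 1) ≃* Equiv.Perm (Fin 4) × Multiplicative (ZMod 2)) := by
  obtain ⟨d, hd, hdt⟩ := h.exists_dist
  rcases h.shape hd hdt with rfl | ⟨rfl, rfl⟩ | ⟨rfl, rfl⟩ | ⟨rfl, rfl⟩
  · exact Or.inl (shape_one h)
  · exact Or.inr (Or.inl (shape_two h hd))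
  · exact Or.inr (Or.inr (Or.inl (shape_three h hd)))
  · exact Or.inr (Or.inr (Or.inr (shape_four h hd)))

end Cfsg.Agent.Lib.Trivalent
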